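import Groth.Agent.H4GD.Canon
import Groth.Agent.H4KS.Adapter

/-!
# Graded duals over graded algebras
-/

set_option autoImplicit false
set_option linter.unusedSectionVars false

universe u

open DirectSum

namespace Groth.Agent.H4GD

variable {k : Type u} [Field k] {R : Type u} [CommRing R] [Algebra k R] {𝒜 : ℤ → Submodule k R} [GradedAlgebra 𝒜]

theorem addGr_hk (c : k) : algebraMap k R c ∈ H4KS.addGr 𝒜 0 := SetLike.algebraMap_mem_graded 𝒜 c

theorem addGr_hsurj (h0 : 𝒜 0 = Submodule.span k {(1 : R)}) (x : R) (hx : x ∈ H4KS.addGr 𝒜 0) :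
    ∃ c : k, algebraMap k R c = x := by
  have hx' : x ∈ 𝒜 0 := hx
  rw [h0, Submodule.mem_span_singleton] at hx'
  obtain ⟨c, rfl⟩ := hx'
  exact ⟨c, Algebra.algebraMap_eq_smul_one c⟩

theorem addGr_hpos (hpos : ∀ n : ℤ, n < 0 → 𝒜 n = ⊥) (n : ℤ) (hn : n < 0) : H4KS.addGr 𝒜 n = ⊥ :=
  (AddSubgroup.eq_bot_iff_forall _).2 fun x hx => (Submodule.eq_bot_iff _).1 (hpos n hn) x hx

theorem nontrivial_of_hull (h : 𝒜 0 = Submodule.span k {(1 : R)}) (m : HomogeneousIdeal 𝒜) (hm : m.toIdeal ≠ ⊤) :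
    Nontrivial R := by
  by_contra hn
  rw [not_nontrivial_iff_subsingleton] at hn
  exact hm (Subsingleton.elim _ _)

theorem gdual_addGr {D : Type u} [AddCommGroup D] [Module R D] [Module k D] [IsScalarTower k R D]
    {𝒟 : ℤ → AddSubgroup D} [Decomposition 𝒟] {β : D →ₗ[k] R →ₗ[k] k} (h : GrSeg.IsGDual R 𝒜 𝒟 β) :
    GrSeg.IsGDual R (H4KS.addGr 𝒜) 𝒟 β :=
  ⟨h.map_smul, h.vanish, h.eq_zero, h.exists_eq⟩

end Groth.Agent.H4GD
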