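import Groth.Agent.H4GD.Alg
import Groth.Agent.H4Gr.RegApps
import Mathlib.RingTheory.Artinian.Module
import Mathlib.RingTheory.SimpleModule.Basic
import Mathlib.RingTheory.FiniteLength

/-!
# Graded duality between finite and Artinian modules
-/

set_option autoImplicit false
set_option linter.unusedSectionVars false
set_option linter.style.haveILetI false

universe u

open DirectSum

namespace Groth.Agent.H4GD

section Lead

variable {R : Type u} [CommRing R] {𝒜 : ℤ → AddSubgroup R} [GradedRing 𝒜]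
  {D : Type u} [AddCommGroup D] [Module R D] (𝒟 : ℤ → AddSubgroup D) [Decomposition 𝒟] [SetLike.GradedSMul 𝒜 𝒟]

/-- The leading components of degree `n` of the elements of a submodule. -/
def leadPiece (P : Submodule R D) (n : ℤ) : AddSubgroup D where
  carrier := {z | ∃ p ∈ P, (∀ j < n, H4Gr.proj 𝒟 j p = 0) ∧ H4Gr.proj 𝒟 n p = z}
  zero_mem' := ⟨0, zero_mem _, fun _ _ => map_zero _, map_zero _⟩
  add_mem' := by
    rintro a b ⟨p, hp, hp0, rfl⟩ ⟨q, hq, hq0, rfl⟩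
    exact ⟨p + q, add_mem hp hq, fun j hj => by rw [map_add, hp0 j hj, hq0 j hj, add_zero], map_add _ _ _⟩
  neg_mem' := by
    rintro a ⟨p, hp, hp0, rfl⟩
    exact ⟨-p, neg_mem hp, fun j hj => by rw [map_neg, hp0 j hj, neg_zero], map_neg _ _⟩

theorem smul_leadPiece {i n : ℤ} {r : R} (hr : r ∈ 𝒜 i) {P : Submodule R D} {z : D}
    (hz : z ∈ leadPiece 𝒟 P n) : r • z ∈ leadPiece 𝒟 P (i + n) := by
  obtain ⟨p, hp, hp0, rfl⟩ := hz
  refine ⟨r • p, P.smul_mem r hp, fun j hj => ?_, ?_⟩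
  · rw [H4Gr.proj_smul hr, hp0 (j - i) (by omega), smul_zero]
  · rw [H4Gr.proj_smul hr, show i + n - i = n by omega]

variable (𝒜) in
/-- The submodule of leading components. -/
def lead (P : Submodule R D) : Submodule R D where
  carrier := {z | ∀ n, H4Gr.proj 𝒟 n z ∈ leadPiece 𝒟 P n}
  zero_mem' n := by rw [map_zero]; exact zero_mem _
  add_mem' {a b} ha hb n := by rw [map_add]; exact add_mem (ha n) (hb n)
  smul_mem' r z hz := by
    intro n
    induction r using H4Gr.induction 𝒜 with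
    | zero => rw [zero_smul, map_zero]; exact zero_mem _
    | add a b ha hb => rw [add_smul, map_add]; exact add_mem ha hb
    | hom i r hr =>
      rw [H4Gr.proj_smul hr]
      have h := smul_leadPiece 𝒟 hr (hz (n - i))
      rwa [add_sub_cancel] at h

theorem isHomogeneous_lead (P : Submodule R D) : (lead 𝒜 𝒟 P).IsHomogeneous 𝒟 := fun g z hz n => by
  show H4Gr.proj 𝒟 n (H4Gr.proj 𝒟 g z) ∈ _
  rw [H4Gr.proj_of_mem (H4Gr.proj_mem 𝒟 g z)]
  split_ifs with h
  · subst h; exact hz g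
  · exact zero_mem _

theorem lead_strictMono {N : ℤ} (hN : ∀ n, N < n → 𝒟 n = ⊥) : StrictMono (lead 𝒜 𝒟) := by
  intro P Q hPQ
  refine lt_of_le_of_ne (fun z hz n => ?_) fun he => ?_
  · obtain ⟨p, hp, h⟩ := hz n
    exact ⟨p, hPQ.le hp, h⟩
  refine hPQ.not_ge fun q hq => ?_
  suffices ∀ (K : ℕ), ∀ q ∈ Q, (∀ j, j < N + 1 - (K : ℤ) → H4Gr.proj 𝒟 j q = 0) → q ∈ P by
    obtain ⟨s, -, hs⟩ := H4Gr.exists_sum_proj 𝒟 q
    obtain ⟨b, hb⟩ : ∃ b : ℤ, ∀ j < b, j ∉ s := by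
      rcases s.eq_empty_or_nonempty with rfl | hne
      · exact ⟨0, fun j _ => Finset.notMem_empty j⟩
      · exact ⟨s.min' hne, fun j hj hjs => absurd (s.min'_le j hjs) (not_le.2 hj)⟩
    exact this (N + 1 - b).toNat q hq fun j hj => hs j (hb j (by omega))
  intro K
  induction K with
  | zero =>
    intro q _ h
    suffices q = 0 by rw [this]; exact zero_mem _
    refine H4Gr.ext_proj 𝒟 fun j => ?_
    rw [map_zero]
    by_cases hj : j < N + 1 - ((0 : ℕ) : ℤ)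
    · exact h j hj
    · exact AddSubgroup.mem_bot.1 (hN j (by omega) ▸ H4Gr.proj_mem 𝒟 j q)
  | succ K ih =>
    intro q hq h
    let n : ℤ := N + 1 - ((K + 1 : ℕ) : ℤ)
    have hz : H4Gr.proj 𝒟 n q ∈ lead 𝒜 𝒟 Q := fun i => by
      rw [H4Gr.proj_of_mem (H4Gr.proj_mem 𝒟 n q)]
      split_ifs with hi
      · subst hi; exact ⟨q, hq, h, rfl⟩
      · exact zero_mem _
    rw [← he] at hz
    obtain ⟨p, hp, hp0, hpn⟩ := hz n
    rw [H4Gr.proj_same (H4Gr.proj_mem 𝒟 n q)] at hpn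
    have h1 : q - p ∈ P := ih (q - p) (sub_mem hq (hPQ.le hp)) fun j hj => by
      rcases lt_trichotomy j n with hjn | rfl | hjn
      · rw [map_sub, h j hjn, hp0 j hjn, sub_zero]
      · rw [map_sub, hpn, sub_self]
      · omega
    simpa using add_mem h1 hp

end Lead

variable {k : Type u} [Field k] {R : Type u} [CommRing R] [Algebra k R] {𝒜 : ℤ → AddSubgroup R} [GradedRing 𝒜]
  (hk : ∀ c : k, algebraMap k R c ∈ 𝒜 0) (hsurj : ∀ x ∈ 𝒜 0, ∃ c : k, algebraMap k R c = x)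
  {M : Type u} [AddCommGroup M] [Module R M] [Module k M] [IsScalarTower k R M]
  {ℳ : ℤ → AddSubgroup M} [Decomposition ℳ] [SetLike.GradedSMul 𝒜 ℳ]
  {D : Type u} [AddCommGroup D] [Module R D] [Module k D] [IsScalarTower k R D]
  {𝒟 : ℤ → AddSubgroup D} [Decomposition 𝒟] [SetLike.GradedSMul 𝒜 𝒟] {β : D →ₗ[k] M →ₗ[k] k}

section Perp

variable (hD : GrSeg.IsGDual R ℳ 𝒟 β)

include hD in
/-- The annihilator of a submodule of the dual. -/
def perp (P : Submodule R D) : Submodule R M where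
  carrier := {x | ∀ d ∈ P, β d x = 0}
  zero_mem' _ _ := map_zero _
  add_mem' {a b} ha hb d hd := by rw [map_add, ha d hd, hb d hd, add_zero]
  smul_mem' r x hx d hd := by rw [← hD.map_smul]; exact hx _ (P.smul_mem r hd)

theorem perp_anti {P Q : Submodule R D} (h : P ≤ Q) : perp hD Q ≤ perp hD P := fun _ hx d hd => hx d (h hd)

include hk in
theorem exists_mem_perp (hF : GrSeg.IsGDual R 𝒟 ℳ β.flip) {P : Submodule R D} (hP : P.IsHomogeneous 𝒟) {n : ℤ}
    {d : D} (hd : d ∈ 𝒟 n) (hdP : d ∉ P) : ∃ x, x ∈ perp hD P ∧ β d x ≠ 0 := by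
  have hdW : d ∉ P.restrictScalars k ⊓ kP hk 𝒟 n := fun h => hdP h.1
  obtain ⟨g, hg, hgW⟩ := Submodule.exists_dual_map_eq_bot_of_notMem hdW inferInstance
  obtain ⟨x, hx, hxg⟩ := hF.exists_eq (-n) g
  rw [neg_neg] at hxg
  refine ⟨x, fun p hp => ?_, fun h => hg ((hxg d hd).symm.trans h)⟩
  rw [pair_proj_left hD (n := n) hx p]
  refine (hxg _ (H4Gr.proj_mem 𝒟 n p)).trans ?_
  have : g (H4Gr.proj 𝒟 n p) ∈ (P.restrictScalars k ⊓ kP hk 𝒟 n).map g :=
    ⟨_, ⟨hP n hp, H4Gr.proj_mem 𝒟 n p⟩, rfl⟩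
  rwa [hgW, Submodule.mem_bot] at this

include hk in
theorem perp_lt (hF : GrSeg.IsGDual R 𝒟 ℳ β.flip) {P Q : Submodule R D} (hP : P.IsHomogeneous 𝒟)
    (hQ : Q.IsHomogeneous 𝒟) (h : P < Q) : perp hD Q < perp hD P := by
  refine lt_of_le_of_ne (perp_anti hD h.le) fun he => ?_
  obtain ⟨q, hq, hqP⟩ := SetLike.exists_of_lt h
  obtain ⟨n, hn⟩ : ∃ n, H4Gr.proj 𝒟 n q ∉ P := by
    by_contra hc
    push Not at hc
    obtain ⟨s, hs, -⟩ := H4Gr.exists_sum_proj 𝒟 q
    exact hqP (hs ▸ sum_mem fun j _ => hc j)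
  obtain ⟨x, hx, hne⟩ := exists_mem_perp hk hD hF hP (H4Gr.proj_mem 𝒟 n q) hn
  exact hne ((he ▸ hx) _ (hQ n hq))

include hk hsurj hD in
/-- The dual of a finite module is Artinian, and the module is its dual. -/
theorem artinian_of_finite (hpos : ∀ n : ℤ, n < 0 → 𝒜 n = ⊥) [Nontrivial R] [IsNoetherianRing R] [Module.Finite R M] :
    IsArtinian R D ∧ GrSeg.IsGDual R 𝒟 ℳ β.flip := by
  have hF := gdual_flip hk hD (finite_kP hk hsurj ℳ)
  obtain ⟨g₀, hg₀⟩ := H4Gr.exists_lower_bound (𝒜 := 𝒜) (ℳ := ℳ) hpos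
  have hN : ∀ n, -g₀ < n → 𝒟 n = ⊥ := fun n hn => (AddSubgroup.eq_bot_iff_forall _).2 fun d hd =>
    hD.eq_zero n d hd fun x hx => by rw [hg₀ (-n) (by omega) x hx, map_zero]
  refine ⟨?_, hF⟩
  have hanti : StrictAnti fun P : Submodule R D => perp hD (lead 𝒜 𝒟 P) := fun P Q h =>
    perp_lt hk hD hF (isHomogeneous_lead 𝒟 P) (isHomogeneous_lead 𝒟 Q) (lead_strictMono 𝒟 hN h)
  exact (isArtinian_iff R D).2 hanti.wellFoundedLT.wf

include hk hsurj hD in
/-- The dual of an Artinian module is finite, and the module is its dual. -/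
theorem finite_of_artinian [Nontrivial R] [IsNoetherianRing R] [IsArtinian R M] :
    Module.Finite R D ∧ GrSeg.IsGDual R 𝒟 ℳ β.flip := by
  letI := (isField_deg0 hk hsurj).toField
  have hfin : ∀ n, FiniteDimensional k (kP hk ℳ n) := fun n => by
    haveI : IsArtinian (GrLC.deg0 𝒜) (GrLC.comp 𝒜 ℳ n) :=
      (isArtinian_iff _ _).2 (H4Gr.strictMono_span_piece n).wellFoundedLT.wf
    refine (finrank_kP hk hsurj ℳ n).2 ?_
    exact ((IsSemisimpleModule.finite_tfae (R := GrLC.deg0 𝒜) (M := GrLC.comp 𝒜 ℳ n)).out 2 0).1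
      (inferInstance : IsArtinian (GrLC.deg0 𝒜) (GrLC.comp 𝒜 ℳ n))
  have hF := gdual_flip hk hD hfin
  refine ⟨?_, hF⟩
  let S : Set (Submodule R M) := perp hD '' {P | P.FG ∧ P.IsHomogeneous 𝒟}
  have hne : S.Nonempty := ⟨_, ⊥, ⟨Submodule.fg_bot, H4Gr.isHomogeneous_bot⟩, rfl⟩
  obtain ⟨_, ⟨P, ⟨hPfg, hP⟩, rfl⟩, hmin⟩ := wellFounded_lt.has_min S hne
  refine ⟨?_⟩
  suffices ∀ d, d ∈ P by
    have hP' : P = ⊤ := eq_top_iff.2 fun d _ => this d
    rwa [hP'] at hPfg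
  intro d
  induction d using H4Gr.induction 𝒟 with
  | zero => exact zero_mem _
  | add a b ha hb => exact add_mem ha hb
  | hom n d hd =>
    by_contra hdP
    let Q : Submodule R D := P ⊔ Submodule.span R {d}
    have hQ : Q.IsHomogeneous 𝒟 := H4Gr.isHomogeneous_iff.2 fun g x hx => by
      obtain ⟨p, hp, y, hy, rfl⟩ := Submodule.mem_sup.1 hx
      rw [map_add]
      exact add_mem (Submodule.mem_sup_left (hP g hp)) (Submodule.mem_sup_right
        (H4Gr.isHomogeneous_span 𝒜 (fun w hw => ⟨n, (Set.mem_singleton_iff.1 hw).symm ▸ hd⟩) g hy))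
    have hlt : P < Q := lt_of_le_of_ne le_sup_left fun h =>
      hdP (h.symm ▸ Submodule.mem_sup_right (Submodule.mem_span_singleton_self d))
    exact hmin _ ⟨Q, ⟨hPfg.sup (Submodule.fg_span_singleton d), hQ⟩, rfl⟩ (perp_lt hk hD hF hP hQ hlt)

end Perp

section Embed

variable {E : Type u} [AddCommGroup E] [Module R E] [Module k E] [IsScalarTower k R E]
  {𝓔 : ℤ → AddSubgroup E} [Decomposition 𝓔] [SetLike.GradedSMul 𝒜 𝓔] {γ : E →ₗ[k] R →ₗ[k] k}

include hk in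
/-- Artinian modules embed into sums of shifts of the dual of the ring. -/
theorem exists_embedding [IsArtinian R M] (hE : GrSeg.IsGDual R 𝒜 𝓔 γ) :
    ∃ (t : ℕ) (sh : Fin t → ℤ) (f : M →ₗ[R] (Fin t → E)), Function.Injective f ∧
      ∀ (i : Fin t) (g : ℤ) (x : M), x ∈ ℳ g → f x i ∈ 𝓔 (g + sh i) := by
  let S : Set (Submodule R M) := {N | ∃ (t : ℕ) (sh : Fin t → ℤ) (f : M →ₗ[R] (Fin t → E)),
    LinearMap.ker f = N ∧ ∀ (i : Fin t) (g : ℤ) (x : M), x ∈ ℳ g → f x i ∈ 𝓔 (g + sh i)}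
  have hne : S.Nonempty := ⟨_, 0, Fin.elim0, 0, rfl, fun i => i.elim0⟩
  obtain ⟨_, ⟨t, sh, f, rfl, hf⟩, hmin⟩ := wellFounded_lt.has_min S hne
  refine ⟨t, sh, f, LinearMap.ker_eq_bot.1 ?_, hf⟩
  by_contra hb
  obtain ⟨x, hx, hx0⟩ := (Submodule.ne_bot_iff _).1 hb
  obtain ⟨n, hn⟩ : ∃ n, H4Gr.proj ℳ n x ≠ 0 := by
    by_contra hc
    push Not at hc
    exact hx0 (H4Gr.ext_proj ℳ fun n => by rw [hc n, map_zero])
  obtain ⟨l, hl⟩ := Module.Projective.exists_dual_ne_zero k hn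
  obtain ⟨h, hh, hhl⟩ := exists_hom hk (𝒞 := ℳ) hE (-n) l
  let f' : M →ₗ[R] (Fin (t + 1) → E) :=
    LinearMap.pi (Fin.cons h fun i => (LinearMap.proj i) ∘ₗ f)
  have hf' : ∀ (i : Fin (t + 1)) (g : ℤ) (y : M), y ∈ ℳ g → f' y i ∈ 𝓔 (g + (Fin.cons (-n) sh : Fin (t + 1) → ℤ) i) := by
    intro i g y hy
    induction i using Fin.cases with
    | zero => simpa [f'] using hh g y hy
    | succ i => simpa [f'] using hf i g y hy
  refine hmin _ ⟨t + 1, _, f', rfl, hf'⟩ (lt_of_le_of_ne (fun y hy => LinearMap.mem_ker.2 (funext fun i => ?_)) fun he => ?_)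
  · simpa [f'] using congrFun (LinearMap.mem_ker.1 hy) i.succ
  · have hfx : H4Gr.proj ℳ n x ∈ LinearMap.ker f := LinearMap.mem_ker.2 (funext fun i => by
      have h1 := H4Gr.map_proj (ℳ := ℳ) (𝒩 := 𝓔) (f := (LinearMap.proj (R := R) i) ∘ₗ f) (d := sh i) (fun g y hy => hf i g y hy) n x
      rw [LinearMap.comp_apply, LinearMap.comp_apply, LinearMap.mem_ker.1 hx, map_zero, map_zero] at h1
      exact h1)
    rw [← he] at hfx
    have h2 : h (H4Gr.proj ℳ n x) = 0 := by simpa [f'] using congrFun (LinearMap.mem_ker.1 hfx) 0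
    refine hl ((hhl _ (by rw [neg_neg]; exact H4Gr.proj_mem ℳ n x)).symm.trans ?_)
    rw [h2, map_zero, LinearMap.zero_apply]

end Embed

section Minimal

variable {F : Type u} [AddCommGroup F] [Module R F] [Module k F] [IsScalarTower k R F]
  {ℱ : ℤ → AddSubgroup F} [Decomposition ℱ] [SetLike.GradedSMul 𝒜 ℱ]
  {DF : Type u} [AddCommGroup DF] [Module R DF] [Module k DF] [IsScalarTower k R DF]
  {𝒟F : ℤ → AddSubgroup DF} [Decomposition 𝒟F] [SetLike.GradedSMul 𝒜 𝒟F] {γ : DF →ₗ[k] F →ₗ[k] k}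
  (hD : GrSeg.IsGDual R ℳ 𝒟 β) (hF : GrSeg.IsGDual R ℱ 𝒟F γ)
  (hpos : ∀ n : ℤ, n < 0 → 𝒜 n = ⊥) (m : HomogeneousIdeal 𝒜)
  (hm : m.toIdeal = Ideal.span (⋃ n ∈ Set.Ioi (0 : ℤ), (𝒜 n : Set R)))

include hD hF in
theorem dualMap_injective {f : F →ₗ[R] M} (hf : Function.Surjective f) {g : D →ₗ[R] DF}
    (hg : GrSeg.IsGDualMap β γ f g) : Function.Injective g :=
  (injective_iff_map_eq_zero g).2 fun d hd => pair_eq_zero hD fun x => by
    obtain ⟨y, rfl⟩ := hf x
    rw [← hg, hd, map_zero, LinearMap.zero_apply]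

include hsurj hpos hm in
theorem smul_of_killed {z : DF} (hz : ∀ r ∈ m.toIdeal, r • z = 0) (t : R) : ∃ c : k, t • z = c • z := by
  induction t using H4Gr.induction 𝒜 with
  | zero => exact ⟨0, by rw [zero_smul, zero_smul]⟩
  | add a b ha hb =>
    obtain ⟨c, hc⟩ := ha
    obtain ⟨c', hc'⟩ := hb
    exact ⟨c + c', by rw [add_smul, hc, hc', add_smul]⟩
  | hom i t ht =>
    rcases lt_trichotomy i 0 with hi | rfl | hi
    · exact ⟨0, by rw [(AddSubgroup.eq_bot_iff_forall _).1 (hpos i hi) t ht, zero_smul, zero_smul]⟩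
    · obtain ⟨c, rfl⟩ := hsurj t ht
      exact ⟨c, algebraMap_smul R c z⟩
    · exact ⟨0, by rw [hz t (hm ▸ Ideal.subset_span (Set.mem_iUnion₂.2 ⟨i, hi, ht⟩)), zero_smul]⟩

include hk hsurj hpos hm hD hF in
/-- Minimal surjections dualize to essential injections. -/
theorem ker_le_iff_essential [IsNoetherianRing R] [Module.Finite R F] {f : F →ₗ[R] M} (hf : Function.Surjective f)
    (hfgr : GrLC.IsGrHom ℱ ℳ f) {g : D →ₗ[R] DF} (hg : GrSeg.IsGDualMap β γ f g) :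
    LinearMap.ker f ≤ m.toIdeal • (⊤ : Submodule R F) ↔ GrLC.IsStarEss 𝒟 𝒟F g := by
  have hmF : ∀ j, ∀ x ∈ m.toIdeal • (⊤ : Submodule R F), H4Gr.proj ℱ j x ∈ m.toIdeal • (⊤ : Submodule R F) := by
    intro j x hx
    refine Submodule.smul_induction_on hx (fun r hr y hy' => ?_) fun a b ha hb => by
      rw [map_add]; exact add_mem ha hb
    · clear hy'
      induction y using H4Gr.induction ℱ with
      | zero => rw [smul_zero, map_zero]; exact zero_mem _
      | add a b ha hb => rw [smul_add, map_add]; exact add_mem ha hb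
      | hom i y hy =>
        have key : ∀ t : R, H4Gr.proj ℱ j (t • y) = H4Gr.proj 𝒜 (j - i) t • y := fun t => by
          induction t using H4Gr.induction 𝒜 with
          | zero => simp
          | add a b ha hb => rw [add_smul, map_add, ha, hb, map_add, add_smul]
          | hom l a ha =>
            rw [H4Gr.proj_of_mem ha, H4Gr.proj_of_mem (H4Gr.smul_mem 𝒜 ha hy)]
            by_cases hl : l = j - i
            · rw [if_pos (by omega), if_pos hl]
            · rw [if_neg (by omega), if_neg hl, zero_smul]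
        rw [key]
        exact Submodule.smul_mem_smul (m.isHomogeneous _ hr) Submodule.mem_top
  have hdeg : GrLC.IsGrHom 𝒟 𝒟F g := fun n d hd => (mem_piece_iff hF n).2 fun j hj x hx => by
    rw [hg d x]; exact hD.vanish n d hd j hj _ (hfgr j x hx)
  constructor
  · intro hker
    refine ⟨dualMap_injective hD hF hf hg, hdeg, fun P hP hP0 => ?_⟩
    obtain ⟨g₀, hg₀⟩ := H4Gr.exists_lower_bound (𝒜 := 𝒜) (ℳ := ℱ) hpos
    obtain ⟨y, hy, hy0⟩ := (Submodule.ne_bot_iff _).1 hP0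
    obtain ⟨n₀, hn₀⟩ : ∃ n, H4Gr.proj 𝒟F n y ≠ 0 := by
      by_contra h
      push Not at h
      exact hy0 (H4Gr.ext_proj 𝒟F fun j => by rw [h j, map_zero])
    have hbd : ∀ n, -g₀ < n → ∀ z ∈ 𝒟F n, z = 0 := fun n hn z hz =>
      hF.eq_zero n z hz fun x hx => by rw [hg₀ (-n) (by omega) x hx, map_zero]
    obtain ⟨n, ⟨z, hzP, hzn, hz0⟩, hmax⟩ := Int.exists_greatest_of_bdd
      (P := fun n => ∃ z ∈ P, z ∈ 𝒟F n ∧ z ≠ 0)
      ⟨-g₀, fun n ⟨z, _, hz, hz0⟩ => le_of_not_gt fun h => hz0 (hbd n h z hz)⟩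
      ⟨n₀, _, hP n₀ hy, H4Gr.proj_mem _ _ _, hn₀⟩
    have hzm : ∀ r ∈ m.toIdeal, r • z = 0 := fun r hr => by
      rw [hm] at hr
      induction hr using Submodule.span_induction with
      | mem r hr =>
        obtain ⟨i, hi, hri⟩ := Set.mem_iUnion₂.1 hr
        by_contra hne
        have := hmax (i + n) ⟨_, P.smul_mem r hzP, H4Gr.smul_mem 𝒜 hri hzn, hne⟩
        have : (0 : ℤ) < i := hi
        omega
      | zero => exact zero_smul R z
      | add a b _ _ ha hb => rw [add_smul, ha, hb, add_zero]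
      | smul t a _ ha => rw [smul_eq_mul, mul_smul, ha, smul_zero]
    have hzk : ∀ x ∈ LinearMap.ker f, γ z x = 0 := fun x hx => by
      have h1 : ∀ w ∈ m.toIdeal • (⊤ : Submodule R F), γ z w = 0 := fun w hw =>
        Submodule.smul_induction_on hw
          (fun r hr w _ => by rw [← hF.map_smul, hzm r hr, map_zero, LinearMap.zero_apply])
          fun a b ha hb => by rw [map_add, ha, hb, add_zero]
      exact h1 x (hker hx)
    let fk : F →ₗ[k] M := f.restrictScalars k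
    obtain ⟨s, hs⟩ := fk.exists_rightInverse_of_surjective (LinearMap.range_eq_top.2 hf)
    have hl : ∀ x, γ z (s (f x)) = γ z x := fun x => by
      rw [← sub_eq_zero, ← map_sub]
      refine hzk _ (LinearMap.mem_ker.2 ?_)
      rw [map_sub, sub_eq_zero]
      exact LinearMap.congr_fun hs (f x)
    obtain ⟨d, hd⟩ := exists_rep hD (γ z ∘ₗ s) {-n} fun j hj x hx => by
      obtain ⟨w, rfl⟩ := hf x
      rw [LinearMap.comp_apply, ← H4Gr.proj_same hx, ← H4Gr.map_proj₀ hfgr, hl]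
      exact hF.vanish n z hzn j (by simpa using hj) _ (H4Gr.proj_mem _ _ _)
    refine (Submodule.ne_bot_iff _).2 ⟨z, ⟨hzP, d, pair_inj hF fun x => ?_⟩, hz0⟩
    rw [hg, hd, LinearMap.comp_apply, hl]
  · intro hess x hx
    by_contra hxm
    obtain ⟨j, hj⟩ : ∃ j, H4Gr.proj ℱ j x ∉ m.toIdeal • (⊤ : Submodule R F) := by
      by_contra h
      push Not at h
      obtain ⟨s, hs, -⟩ := H4Gr.exists_sum_proj ℱ x
      exact hxm (hs ▸ sum_mem fun i _ => h i)
    obtain ⟨l, hl, hlW⟩ := Submodule.exists_dual_map_eq_bot_of_notMem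
      (p := (m.toIdeal • (⊤ : Submodule R F)).restrictScalars k) hj inferInstance
    have hl0 : ∀ w ∈ m.toIdeal • (⊤ : Submodule R F), l (H4Gr.proj ℱ j w) = 0 := fun w hw => by
      have : l (H4Gr.proj ℱ j w) ∈ ((m.toIdeal • (⊤ : Submodule R F)).restrictScalars k).map l :=
        ⟨_, hmF j w hw, rfl⟩
      rwa [hlW, Submodule.mem_bot] at this
    obtain ⟨z, hz⟩ := exists_rep hF (l ∘ₗ projK hk ℱ j) {j} fun i hi w hw => by
      rw [LinearMap.comp_apply, projK_apply, H4Gr.proj_ne hw (by simpa using hi), map_zero]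
    have hzj : z ∈ 𝒟F (-j) := (mem_piece_iff hF (-j)).2 fun i hi w hw => by
      rw [hz, LinearMap.comp_apply, projK_apply, H4Gr.proj_ne hw (fun h => hi (by rw [h, neg_neg])), map_zero]
    have hzm : ∀ r ∈ m.toIdeal, r • z = 0 := fun r hr => pair_eq_zero hF fun w => by
      rw [hF.map_smul, hz, LinearMap.comp_apply, projK_apply]
      exact hl0 _ (Submodule.smul_mem_smul hr Submodule.mem_top)
    have hxz : γ z x ≠ 0 := by rw [hz]; exact hl
    have hP0 : Submodule.span R {z} ≠ ⊥ := fun h => hxz (by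
      rw [Submodule.span_singleton_eq_bot.1 h, map_zero, LinearMap.zero_apply])
    obtain ⟨w, ⟨hw, d, hd⟩, hw0⟩ := (Submodule.ne_bot_iff _).1 (hess.essential _
      (H4Gr.isHomogeneous_span 𝒜 fun y hy => ⟨-j, (Set.mem_singleton_iff.1 hy).symm ▸ hzj⟩) hP0)
    obtain ⟨t, rfl⟩ := Submodule.mem_span_singleton.1 hw
    obtain ⟨c, hc⟩ := smul_of_killed hsurj hpos m hm hzm t
    have hc0 : c ≠ 0 := fun h => hw0 (by rw [hc, h, zero_smul])
    have h2 : γ (g d) x = 0 := by rw [hg, LinearMap.mem_ker.1 hx, map_zero]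
    rw [hd, hc, map_smul, LinearMap.smul_apply, smul_eq_mul] at h2
    exact (mul_ne_zero hc0 hxz) h2

end Minimal

end Groth.Agent.H4GD
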