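import Groth.Agent.H4GD.Hull
import Groth.Agent.H4Gr.FinPieces
import Groth.Agent.H4Gr.StarGorenstein
import Groth.Agent.H4KS.Piece

/-!
# Canonical modules as graded duals of the top local cohomology
-/

set_option autoImplicit false
set_option linter.unusedSectionVars false
set_option linter.style.haveILetI false

universe u

open DirectSum

namespace Groth.Agent.H4GD

variable {k : Type u} [Field k] {R : Type u} [CommRing R] [Algebra k R] {𝒜 : ℤ → AddSubgroup R} [GradedRing 𝒜]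
  (hk : ∀ c : k, algebraMap k R c ∈ 𝒜 0)

section Congr

variable {M : Type u} [AddCommGroup M] [Module R M] [Module k M] [IsScalarTower k R M]
  {ℳ : ℤ → AddSubgroup M} [Decomposition ℳ]
  {D : Type u} [AddCommGroup D] [Module R D] [Module k D] [IsScalarTower k R D]
  {𝒟 : ℤ → AddSubgroup D} [Decomposition 𝒟]
  {D' : Type u} [AddCommGroup D'] [Module R D'] [Module k D'] [IsScalarTower k R D']
  {𝒟' : ℤ → AddSubgroup D'} [Decomposition 𝒟'] {β : D →ₗ[k] M →ₗ[k] k}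

theorem gdual_congr (hD : GrSeg.IsGDual R ℳ 𝒟 β) (φ : D ≃ₗ[R] D') (hφ : GrLC.IsGrHom 𝒟 𝒟' φ.toLinearMap) :
    GrSeg.IsGDual R ℳ 𝒟' (β ∘ₗ φ.symm.toLinearMap.restrictScalars k) := by
  have hs : GrLC.IsGrHom 𝒟' 𝒟 φ.symm.toLinearMap := H4Gr.isGrHom_symm hφ
  refine ⟨fun r d x => ?_, fun n d hd => hD.vanish n _ (hs n d hd),
    fun n d hd h => φ.symm.map_eq_zero_iff.1 (hD.eq_zero n _ (hs n d hd) h), fun n g => ?_⟩
  · simp only [LinearMap.comp_apply, LinearMap.coe_restrictScalars, LinearEquiv.coe_coe, map_smul]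
    exact hD.map_smul r _ x
  · obtain ⟨d, hd, hdx⟩ := hD.exists_eq n g
    refine ⟨φ d, hφ n d hd, fun x hx => ?_⟩
    simpa using hdx x hx

end Congr

variable (hsurj : ∀ x ∈ 𝒜 0, ∃ c : k, algebraMap k R c = x) [Nontrivial R]

include hsurj in
theorem bijective_toDeg0 : Function.Bijective (fun c : k => (⟨_, hk c⟩ : GrLC.deg0 𝒜)) :=
  ⟨fun _ _ h => (algebraMap k R).injective (congrArg Subtype.val h), fun x => by
    obtain ⟨c, hc⟩ := hsurj x x.2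
    exact ⟨c, Subtype.ext hc⟩⟩

section Dim

variable {M : Type u} [AddCommGroup M] [Module R M] [Module k M] [IsScalarTower k R M]
  (ℳ : ℤ → AddSubgroup M) [Decomposition ℳ] [SetLike.GradedSMul 𝒜 ℳ]

include hsurj in
theorem finrank_kP (n : ℤ) :
    Module.finrank k (kP hk ℳ n) = Module.finrank (GrLC.deg0 𝒜) (GrLC.comp 𝒜 ℳ n) ∧
      (Module.Finite (GrLC.deg0 𝒜) (GrLC.comp 𝒜 ℳ n) → FiniteDimensional k (kP hk ℳ n)) :=
  H4KS.finrank_transfer (V := kP hk ℳ n) _ (bijective_toDeg0 hk hsurj)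
    ({ toFun := fun x => ⟨x.1, x.2⟩, invFun := fun x => ⟨x.1, x.2⟩, map_add' := fun _ _ => rfl } :
      kP hk ℳ n ≃+ GrLC.comp 𝒜 ℳ n) fun c x => Subtype.ext (algebraMap_smul R c (x : M)).symm

variable [IsNoetherianRing R]

include hsurj in
theorem finite_kP [Module.Finite R M] (n : ℤ) : FiniteDimensional k (kP hk ℳ n) := by
  haveI := H4Gr.isNoetherian_comp (𝒜 := 𝒜) (ℳ := ℳ) n
  exact (finrank_kP hk hsurj ℳ n).2 inferInstance

end Dim

variable (hpos : ∀ n : ℤ, n < 0 → 𝒜 n = ⊥) (m : HomogeneousIdeal 𝒜)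
  (hm : m.toIdeal = Ideal.span (⋃ n ∈ Set.Ioi (0 : ℤ), (𝒜 n : Set R))) [IsNoetherianRing R]

section LC

variable {M : Type u} [AddCommGroup M] [Module R M] {ℳ : ℤ → AddSubgroup M} [Decomposition ℳ]
  [SetLike.GradedSMul 𝒜 ℳ] [Module.Finite R M] (I : GrLC.StarInjRes 𝒜 ℳ) (i : ℕ)
  [Module k (I.H m i)] [IsScalarTower k R (I.H m i)] [Decomposition (I.Hgr m i)] [SetLike.GradedSMul 𝒜 (I.Hgr m i)]

include hsurj hpos hm in
theorem finite_kP_H (n : ℤ) : FiniteDimensional k (kP hk (I.Hgr m i) n) := by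
  haveI : Module.Finite R (GrLC.GMod.of 𝒜 M ℳ).carrier := inferInstanceAs (Module.Finite R M)
  haveI : Module.Finite (GrLC.deg0 𝒜) (I.Hcomp m i n) := (H4Gr.tame m hpos hm (GrLC.GMod.of 𝒜 M ℳ) I).2 i n
  refine (finrank_kP hk hsurj (I.Hgr m i) n).2 ?_
  exact Module.Finite.equiv
    ({ toFun := fun x => ⟨x.1, x.2⟩, invFun := fun x => ⟨x.1, x.2⟩, map_add' := fun _ _ => rfl,
       map_smul' := fun _ _ => rfl } : I.Hcomp m i n ≃ₗ[GrLC.deg0 𝒜] GrLC.comp 𝒜 (I.Hgr m i) n)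

end LC

variable {E : Type u} [AddCommGroup E] [Module R E] [Module k E] [IsScalarTower k R E]
  {𝓔 : ℤ → AddSubgroup E} [Decomposition 𝓔] [SetLike.GradedSMul 𝒜 𝓔]
  {C : Type u} [AddCommGroup C] [Module R C] [Module k C] [IsScalarTower k R C]
  {𝒞 : ℤ → AddSubgroup C} [Decomposition 𝒞] [SetLike.GradedSMul 𝒜 𝒞]
  (n : ℕ) (I : GrLC.StarInjRes 𝒜 𝒜)
  [Module k (I.H m n)] [IsScalarTower k R (I.H m n)] [Decomposition (I.Hgr m n)] [SetLike.GradedSMul 𝒜 (I.Hgr m n)]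

include hk hsurj hpos hm in
/-- A canonical module is the graded dual of the top local cohomology. -/
theorem gdual_of_canonical {e : (R ⧸ m.toIdeal) →ₗ[R] E} (he : GrLC.IsStarInjHull 𝒜 (GrLC.quotGr 𝒜 m) 𝓔 e)
    (hC : GrLC.IsStarCanonical 𝒜 𝒞 𝓔 m n I) :
    ∃ γ : C →ₗ[k] I.H m n →ₗ[k] k, GrSeg.IsGDual R (I.Hgr m n) 𝒞 γ := by
  obtain ⟨hfin, φ, hφ⟩ := hC
  obtain ⟨β, hβ⟩ := exists_gdual_hull hk hsurj hpos m hm he.toIsStarEss he.starInj
  letI := (isInternal_homGr (𝒜 := 𝒜) (𝒞 := 𝒞) (𝓔 := 𝓔)).chooseDecomposition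
  haveI := gradedSMul_homGr (𝒜 := 𝒜) (𝒞 := 𝒞) (𝓔 := 𝓔)
  exact ⟨_, gdual_flip hk (gdual_congr (gdual_hom hk (𝒞 := 𝒞) hβ) φ hφ) (finite_kP hk hsurj 𝒞)⟩

include hk hsurj hpos hm in
/-- A finite graded dual of the top local cohomology is a canonical module. -/
theorem canonical_of_gdual [Module.Finite R C] {e : (R ⧸ m.toIdeal) →ₗ[R] E}
    (he : GrLC.IsStarInjHull 𝒜 (GrLC.quotGr 𝒜 m) 𝓔 e) {γ : C →ₗ[k] I.H m n →ₗ[k] k}
    (hC : GrSeg.IsGDual R (I.Hgr m n) 𝒞 γ) : GrLC.IsStarCanonical 𝒜 𝒞 𝓔 m n I := by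
  obtain ⟨β, hβ⟩ := exists_gdual_hull hk hsurj hpos m hm he.toIsStarEss he.starInj
  letI := (isInternal_homGr (𝒜 := 𝒜) (𝒞 := 𝒞) (𝓔 := 𝓔)).chooseDecomposition
  haveI := gradedSMul_homGr (𝒜 := 𝒜) (𝒞 := 𝒞) (𝓔 := 𝓔)
  have hid : GrLC.IsGrHomDeg 𝒞 𝒞 (LinearEquiv.refl R C).toLinearMap 0 :=
    H4Gr.isGrHomDeg_zero_iff.2 fun _ _ h => h
  obtain ⟨φ, -, hφ, -⟩ := exists_dualEquiv (gdual_hom hk (𝒞 := 𝒞) hβ)
    (gdual_flip hk hC (finite_kP_H hk hsurj hpos m hm I n)) (LinearEquiv.refl R C) hid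
    (by rw [neg_zero]; exact hid)
  exact ⟨inferInstance, φ, fun g x hx => (add_zero g).subst (motive := fun j => φ x ∈ I.Hgr m n j) (hφ g x hx)⟩

end Groth.Agent.H4GD
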