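import Groth.Agent.H4GD.Exists
import Groth.Agent.H4GD.Canon

/-!
# Existence of canonical modules
-/

set_option autoImplicit false
set_option linter.unusedSectionVars false
set_option linter.style.haveILetI false

universe u

open DirectSum

namespace Groth.Agent.H4GD

variable {k : Type u} [Field k] {R : Type u} [CommRing R] [Algebra k R] [IsNoetherianRing R]
  {𝒜 : ℤ → AddSubgroup R} [GradedRing 𝒜] (hk : ∀ c : k, algebraMap k R c ∈ 𝒜 0)
  (hsurj : ∀ x ∈ 𝒜 0, ∃ c : k, algebraMap k R c = x) (hpos : ∀ n : ℤ, n < 0 → 𝒜 n = ⊥)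
  {m : HomogeneousIdeal 𝒜} (hm : m.toIdeal = Ideal.span (⋃ n ∈ Set.Ioi (0 : ℤ), (𝒜 n : Set R)))
  (hloc : GrLC.IsStarLocal 𝒜 m) (n : ℕ) (I : GrLC.StarInjRes 𝒜 𝒜)
  {E : Type u} [AddCommGroup E] [Module R E] {𝓔 : ℤ → AddSubgroup E} [Decomposition 𝓔]
  [SetLike.GradedSMul 𝒜 𝓔] {e : (R ⧸ m.toIdeal) →ₗ[R] E} (he : GrLC.IsStarInjHull 𝒜 (GrLC.quotGr 𝒜 m) 𝓔 e)

include hk hsurj hpos hm hloc he in
/-- A positively graded ring over a field has a canonical module. -/
theorem exists_canonical : ∃ C : GrLC.GMod.{u} 𝒜, GrLC.IsStarCanonical 𝒜 C.gr 𝓔 m n I := by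
  haveI : Nontrivial R := nontrivial_of_ne 1 0 fun h => hloc.1.1 (HomogeneousIdeal.toIdeal_injective
    ((Ideal.eq_top_iff_one _).2 (h ▸ zero_mem _)))
  letI : Module k E := Module.compHom E (algebraMap k R)
  haveI : IsScalarTower k R E := IsScalarTower.of_algebraMap_smul fun _ _ => rfl
  letI : Module k (I.H m n) := Module.compHom (I.H m n) (algebraMap k R)
  haveI : IsScalarTower k R (I.H m n) := IsScalarTower.of_algebraMap_smul fun _ _ => rfl
  letI := (H4Gr.isInternal_Hgr m I n).chooseDecomposition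
  haveI := H4Gr.gradedSMul_Hgr m I n
  haveI : IsArtinian R (I.H m n) := H4Gr.isArtinian_starH hpos hloc I n
  obtain ⟨X, i₁, i₂, β, hβ⟩ := exists_gdual (k := k) hk (I.Hgr m n)
  haveI : Module.Finite R X.carrier := (finite_of_artinian hk hsurj hβ).1
  exact ⟨X, canonical_of_gdual hk hsurj hpos m hm n I he hβ⟩

end Groth.Agent.H4GD
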