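import Groth.Agent.H4GD.LocCanon
import Groth.Agent.H4LC.CanonCM
import Groth.Agent.H4LC.Rees
import Groth.Agent.H4Gr.InjDim
import Groth.Agent.S18636

/-!
# Type and injective dimension of canonical modules
-/

set_option autoImplicit false
set_option linter.unusedSectionVars false
set_option linter.style.haveILetI false

universe u

open DirectSum IsLocalRing CategoryTheory RingTheory.Sequence
open scoped TensorProduct

namespace Groth.Agent.H4GD

section Local

variable {A : Type u} [CommRing A] [LocCoh.IsCohenMacaulayLocalRing A] {n : ℕ} (hn : ringKrullDim A = n)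
  {E : Type u} [AddCommGroup E] [Module A E] {f : ResidueField A →ₗ[A] E} (hf : InjHull.IsInjectiveHull f)
  {K : Type u} [AddCommGroup K] [Module A K] [Module.Finite A K]
  (eK : (K →ₗ[A] E) ≃ₗ[A] LocCoh.H (maximalIdeal A) n A)

theorem isFiniteLength_of_smul_eq_zero {B : Type u} [CommRing B] [IsLocalRing B] [IsNoetherianRing B]
    (X : Type u) [AddCommGroup X] [Module B X] [Module.Finite B X]
    (h : ∀ a ∈ maximalIdeal B, ∀ x : X, a • x = 0) : IsFiniteLength B X := by
  refine isFiniteLength_iff_isNoetherian_isArtinian.2 ⟨inferInstance, ?_⟩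
  have hX : Module.IsTorsionBySet B X (maximalIdeal B : Set B) := fun x a => h a a.2 x
  letI := hX.module
  haveI : IsScalarTower B (B ⧸ maximalIdeal B) X := hX.isScalarTower
  haveI : Module.Finite (B ⧸ maximalIdeal B) X := Module.Finite.of_restrictScalars_finite B _ X
  letI := Ideal.Quotient.field (maximalIdeal B)
  haveI : IsArtinianRing (B ⧸ maximalIdeal B) := inferInstance
  haveI : IsArtinian (B ⧸ maximalIdeal B) X := isArtinian_of_fg_of_artinian'
  exact isArtinian_of_surjective_algebraMap (R := B ⧸ maximalIdeal B) (S := B) Ideal.Quotient.mk_surjective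

include hn hf eK in
/-- The type of a canonical module is `1`; the type of the ring is the number of generators of a canonical module. -/
theorem length_ext_canon :
    Module.length A (Abelian.Ext.{u} (ModuleCat.of A (ResidueField A)) (ModuleCat.of A K) n) = 1 ∧
      Module.length A (Abelian.Ext.{u} (ModuleCat.of A (ResidueField A)) (ModuleCat.of A A) n) =
        Module.length A (ResidueField A ⊗[A] K) := by
  obtain ⟨rs, hlen, hmem, hreg⟩ := H4Depth.exists_isWeaklyRegular_of_le_idealDepth
    (H4Depth.maximalIdeal_smul_top_ne_top (R := A) (M := A)) (n := n) (H4LC.depth_self_eq hn).ge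
  obtain ⟨hiff, hquot⟩ := H4LC.isWeaklyRegular_iff_canon hf hn eK rs hmem
  have hkill : ∀ a ∈ maximalIdeal A, ∀ z : ResidueField A, a • z = 0 := fun a ha z => by
    obtain ⟨y, rfl⟩ := Ideal.Quotient.mk_surjective z
    exact Ideal.Quotient.eq_zero_iff_mem.2 (Ideal.mul_mem_right y _ ha)
  have hann : ∀ a ∈ rs, a ∈ Module.annihilator A (ResidueField A) := fun a ha =>
    Module.mem_annihilator.2 (hkill a (hmem a ha))
  constructor
  · obtain ⟨-, ⟨eR⟩⟩ := H4LC.ext_rees (ResidueField A) rs K (hiff.1 hreg) hann
    rw [hlen] at eR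
    let X := Abelian.Ext.{u} (ModuleCat.of A (ResidueField A)) (ModuleCat.of A K) n
    haveI : Module.Finite A X := Module.Finite.equiv eR.symm
    have hX : ∀ a ∈ maximalIdeal A, ∀ x : X, a • x = 0 := fun a ha x => eR.injective (by
      rw [map_smul, map_zero]
      exact LinearMap.ext fun z => by rw [LinearMap.smul_apply, ← map_smul, hkill a ha, map_zero, LinearMap.zero_apply])
    rw [← H4Matlis.length_hom_eq_length hf (isFiniteLength_of_smul_eq_zero X hX)]
    obtain ⟨e⟩ := (H4LC.duality_CM hn hf eK (H4LC.subsingleton_H_self_of_lt hn) n (ResidueField A)).1 0 (zero_add n)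
    have htor : DRing.torsionSub (maximalIdeal A) (ResidueField A) = ⊤ :=
      H4LC.torsionSub_eq_top _ fun x => ⟨1, fun a ha => hkill a (by rwa [pow_one] at ha) x⟩
    rw [← ((((H4LC.zeroEquiv _ (ResidueField A)).trans (LinearEquiv.ofTop _ htor)).symm.trans e).length_eq)]
    exact H4Gr.length_residueField
  · obtain ⟨-, ⟨eR⟩⟩ := H4LC.ext_rees (ResidueField A) rs A hreg hann
    rw [hlen] at eR
    obtain ⟨d, hd, -, hdim, ⟨eq⟩⟩ := hquot hreg
    obtain rfl : d = 0 := by omega
    let J := Ideal.ofList rs
    have htor := H4LC.isPowerTorsion_of_supportDim_eq_zero (by exact_mod_cast hdim)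
    let e : (K ⧸ J • (⊤ : Submodule A K) →ₗ[A] E) ≃ₗ[A] A ⧸ J • (⊤ : Submodule A A) :=
      eq.trans ((H4LC.zeroEquiv _ (A ⧸ J • (⊤ : Submodule A A))).trans
        (LinearEquiv.ofTop _ (H4LC.torsionSub_eq_top _ htor)))
    let q := (J • (⊤ : Submodule A K)).mkQ
    let ρ : (ResidueField A →ₗ[A] (K ⧸ J • (⊤ : Submodule A K) →ₗ[A] E)) →ₗ[A] (ResidueField A →ₗ[A] (K →ₗ[A] E)) :=
      LinearMap.compRight A (LinearMap.lcomp A E q)
    have hρ : Function.Bijective ρ := by
      refine ⟨fun a b h => LinearMap.ext fun z => LinearMap.ext fun y => ?_, fun φ => ?_⟩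
      · obtain ⟨x, rfl⟩ := Submodule.Quotient.mk_surjective _ y
        exact LinearMap.congr_fun (LinearMap.congr_fun h z) x
      · have hle : ∀ z, J • (⊤ : Submodule A K) ≤ LinearMap.ker (φ z) := fun z => Submodule.smul_le.2 fun a ha x _ => by
          rw [LinearMap.mem_ker, map_smul, ← LinearMap.smul_apply, ← map_smul,
            hkill a ((Ideal.span_le.2 hmem) ha), map_zero, LinearMap.zero_apply]
        exact ⟨{ toFun := fun z => (J • (⊤ : Submodule A K)).liftQ (φ z) (hle z)
                 map_add' := fun a b => Submodule.linearMap_qext _ (LinearMap.ext fun x => by simp)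
                 map_smul' := fun a b => Submodule.linearMap_qext _ (LinearMap.ext fun x => by simp) },
          LinearMap.ext fun z => LinearMap.ext fun x => rfl⟩
    let eX := ((eR.trans (LinearEquiv.congrRight e.symm)).trans (LinearEquiv.ofBijective ρ hρ)).trans
      (TensorProduct.lift.equiv (RingHom.id A) (ResidueField A) K E)
    rw [eX.length_eq]
    haveI : Module.Finite A (ResidueField A ⊗[A] K) := Module.Finite.tensorProduct A _ _
    refine H4Matlis.length_hom_eq_length hf (isFiniteLength_of_smul_eq_zero _ fun a ha x => ?_)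
    induction x using TensorProduct.induction_on with
    | zero => exact smul_zero a
    | tmul z y => rw [TensorProduct.smul_tmul', hkill a ha, TensorProduct.zero_tmul]
    | add x y hx hy => rw [smul_add, hx, hy, add_zero]

end Local

variable {R : Type u} [CommRing R] [IsNoetherianRing R] {𝒜 : ℤ → AddSubgroup R} [GradedRing 𝒜]
  {m : HomogeneousIdeal 𝒜} [m.toIdeal.IsPrime]

/-- Finite injective dimension at the *maximal ideal is finite injective dimension. -/
theorem hasInjectiveDimensionLT_of_localized (hm : GrLC.IsStarLocal 𝒜 m)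
    {M : Type u} [AddCommGroup M] [Module R M] {ℳ : ℤ → AddSubgroup M} [Decomposition ℳ] [SetLike.GradedSMul 𝒜 ℳ]
    (N : ℕ) (h : HasInjectiveDimensionLT
      (ModuleCat.of (Localization.AtPrime m.toIdeal) (LocalizedModule m.toIdeal.primeCompl M)) (N + 1)) :
    HasInjectiveDimensionLT (ModuleCat.of R M) (N + 2) := by
  have key : ∀ c : Ideal R, c.IsHomogeneous 𝒜 → ∀ [c.IsPrime], ∀ i, N < i → GrLC.bassNum c M i = 0 := by
    intro c hc _ i hi
    have hcm : c ≤ m.toIdeal := H4Gr.le_of_isStarLocal hm hc (Ideal.IsPrime.ne_top ‹_›)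
    haveI : Module.Finite R (ModuleCat.of R (R ⧸ c)) := inferInstanceAs (Module.Finite R (R ⧸ c))
    have hl := H4Gr.isLocMap_ext m.toIdeal (ModuleCat.of R (R ⧸ c)) (ModuleCat.of R M) i
    let e₂ : (ModuleCat.localizedModuleFunctor.{u} m.toIdeal.primeCompl).obj (ModuleCat.of R M) ≅
        ModuleCat.of (Localization.AtPrime m.toIdeal) (LocalizedModule m.toIdeal.primeCompl M) :=
      (Shrink.linearEquiv.{u} (Localization m.toIdeal.primeCompl) (LocalizedModule m.toIdeal.primeCompl M)).toModuleIso
    haveI := h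
    haveI := hasInjectiveDimensionLT_of_iso e₂.symm (N + 1)
    refine (H4Gr.bassNum_eq_zero_iff c M i).2 fun x => ?_
    obtain ⟨s, hs⟩ := hl.ker x (Abelian.Ext.eq_zero_of_hasInjectiveDimensionLT _ (N + 1) hi)
    exact ⟨s.1, fun h' => s.2 (hcm h'), hs⟩
  refine H05EGA4.hasInjectiveDimensionLT_of_ext_quotient (N + 1) (ModuleCat.of R M) fun J =>
    H4Gr.subsingleton_ext_of_bassNum M (N + 1 + 1) (fun p _ => ?_) J
  by_cases hp : Ideal.IsHomogeneous 𝒜 p
  · exact key p hp _ (by omega)
  · haveI := H4Gr.isPrime_homogeneousCore 𝒜 p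
    exact ((S18636.result R 𝒜 M ℳ p hp).2 (N + 1)).trans
      (key _ (Ideal.homogeneousCore 𝒜 p).isHomogeneous _ (by omega))

/-- The minimal number of generators at a maximal ideal. -/
theorem length_residueField_tensor (p : Ideal R) [p.IsMaximal] (C : Type u) [AddCommGroup C] [Module R C]
    [Module.Finite R C] :
    Module.length (Localization.AtPrime p)
      (ResidueField (Localization.AtPrime p) ⊗[Localization.AtPrime p] LocalizedModule p.primeCompl C) =
      (Module.finrank (R ⧸ p) ((R ⧸ p) ⊗[R] C) : ℕ∞) := by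
  let A := Localization.AtPrime p
  let k := ResidueField A
  let eL : LocalizedModule p.primeCompl C ≃ₗ[A] A ⊗[R] C :=
    LocalizedModule.equivTensorProduct p.primeCompl C
  let e0 : k ⊗[A] LocalizedModule p.primeCompl C ≃ₗ[k] k ⊗[R] C :=
    (TensorProduct.AlgebraTensorModule.congr (LinearEquiv.refl k k) eL).trans
      (TensorProduct.AlgebraTensorModule.cancelBaseChange R A k k C)
  rw [Module.length_eq_of_surjective (R := k) (S := A) residue_surjective, e0.length_eq]
  rw [Module.length_eq_finrank]
  congr 1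
  have hb : Function.Bijective (algebraMap (R ⧸ p) p.ResidueField) := Ideal.bijective_algebraMap_quotient_residueField p
  let ψ : (R ⧸ p) →ₐ[R] k := IsScalarTower.toAlgHom R (R ⧸ p) p.ResidueField
  let eψ := AlgEquiv.ofBijective ψ hb
  let eT : (R ⧸ p) ⊗[R] C ≃+ k ⊗[R] C := (TensorProduct.congr eψ.toLinearEquiv (LinearEquiv.refl R C)).toAddEquiv
  refine (congrArg Cardinal.toNat (rank_eq_of_equiv_equiv (ψ : R ⧸ p → k) eT hb fun r x => ?_)).symm
  induction x using TensorProduct.induction_on with
  | zero => simp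
  | tmul z y =>
    show TensorProduct.congr eψ.toLinearEquiv (LinearEquiv.refl R C) ((r * z) ⊗ₜ[R] y) = (ψ r * ψ z) ⊗ₜ[R] y
    rw [TensorProduct.congr_tmul]
    congr 1
    exact map_mul ψ r z
  | add x y hx hy => simp [smul_add, map_add, hx, hy]

end Groth.Agent.H4GD
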