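import Groth.Agent.H4GD.Canon
import Groth.Agent.H4Gr.LES
import Groth.Agent.H4Gr.Dim

/-!
# The top graded local cohomology as a right exact functor
-/

set_option autoImplicit false
set_option linter.unusedSectionVars false
set_option linter.style.haveILetI false

universe u

open DirectSum

namespace Groth.Agent.H4GD

variable {R : Type u} [CommRing R] [IsNoetherianRing R] {𝒜 : ℤ → AddSubgroup R} [GradedRing 𝒜]
  (m : HomogeneousIdeal 𝒜) (n : ℕ) (I : GrLC.StarInjRes 𝒜 𝒜)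
  {M : Type u} [AddCommGroup M] [Module R M] {ℳ : ℤ → AddSubgroup M} [Decomposition ℳ] [SetLike.GradedSMul 𝒜 ℳ]
  {N : Type u} [AddCommGroup N] [Module R N] {𝒩 : ℤ → AddSubgroup N} [Decomposition 𝒩] [SetLike.GradedSMul 𝒜 𝒩]
  (EM : GrLC.StarInjRes 𝒜 ℳ) (EN : GrLC.StarInjRes 𝒜 𝒩)

theorem isGrHomDeg_toSpan {j : ℤ} {x : M} (hx : x ∈ ℳ j) :
    GrLC.IsGrHomDeg 𝒜 ℳ (LinearMap.toSpanSingleton R M x) j := fun _ _ hr => H4Gr.smul_mem 𝒜 hr hx

theorem hmap_zero_map {e : ℤ} (h : GrLC.IsGrHomDeg ℳ 𝒩 (0 : M →ₗ[R] N) e) :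
    H4Gr.hmap m EM EN 0 h n = 0 := by
  have hφ : H4Gr.IsLift (H4Gr.Res.ofStar EM) (H4Gr.Res.ofStar EN) (0 : M →ₗ[R] N) e (fun _ => 0) :=
    ⟨fun _ _ _ _ => zero_mem _, fun _ => (map_zero EN.ε).symm, fun k _ => (map_zero (EN.d k)).symm⟩
  rw [H4Gr.hmap_eq m h hφ]
  refine LinearMap.ext fun y => ?_
  obtain ⟨z, rfl⟩ := H4Gr.toH_surjective m n y
  exact map_zero (EN.toH m n)

theorem hmap_add_map {f g : M →ₗ[R] N} {e : ℤ} (hf : GrLC.IsGrHomDeg ℳ 𝒩 f e) (hg : GrLC.IsGrHomDeg ℳ 𝒩 g e)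
    (h : GrLC.IsGrHomDeg ℳ 𝒩 (f + g) e) :
    H4Gr.hmap m EM EN (f + g) h n = H4Gr.hmap m EM EN f hf n + H4Gr.hmap m EM EN g hg n := by
  have hF := H4Gr.isLift_lift EM EN f hf
  have hG := H4Gr.isLift_lift EM EN g hg
  have hφ : H4Gr.IsLift (H4Gr.Res.ofStar EM) (H4Gr.Res.ofStar EN) (f + g) e
      (fun k => H4Gr.lift EM EN f hf k + H4Gr.lift EM EN g hg k) :=
    ⟨fun k i x hx => add_mem (hF.deg k i x hx) (hG.deg k i x hx),
      fun x => (congrArg₂ (· + ·) (hF.comm₀ x) (hG.comm₀ x)).trans (map_add EN.ε _ _).symm,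
      fun k x => (congrArg₂ (· + ·) (hF.comm k x) (hG.comm k x)).trans (map_add (EN.d k) _ _).symm⟩
  rw [H4Gr.hmap_eq m h hφ]
  refine LinearMap.ext fun y => ?_
  obtain ⟨z, rfl⟩ := H4Gr.toH_surjective m n y
  exact map_add (EN.toH m n) ⟨_, _⟩ ⟨_, _⟩

/-- The map on top cohomology attached to a homogeneous element. -/
noncomputable def etaPiece (j : ℤ) : ℳ j →+ (I.H m n →ₗ[R] EM.H m n) :=
  AddMonoidHom.mk' (fun x => H4Gr.hmap m I EM _ (isGrHomDeg_toSpan x.2) n) fun x y => by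
    have heq : LinearMap.toSpanSingleton R M ((x + y : ℳ j) : M) =
        LinearMap.toSpanSingleton R M (x : M) + LinearMap.toSpanSingleton R M (y : M) :=
      LinearMap.ext fun r => smul_add r (x : M) (y : M)
    exact (H4Gr.hmap_congr m _ (fun i r hr => add_mem (isGrHomDeg_toSpan x.2 i r hr) (isGrHomDeg_toSpan y.2 i r hr))
      heq rfl n).trans (hmap_add_map m n I EM _ _ _)

/-- The map on top cohomology attached to an element. -/
noncomputable def etaHom : M →+ (I.H m n →ₗ[R] EM.H m n) :=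
  (DirectSum.toAddMonoid (etaPiece m n I EM)).comp (decomposeAddEquiv ℳ).toAddMonoidHom

theorem etaHom_of_mem {j : ℤ} {x : M} (hx : x ∈ ℳ j) :
    etaHom m n I EM x = H4Gr.hmap m I EM _ (isGrHomDeg_toSpan hx) n := by
  show DirectSum.toAddMonoid (etaPiece m n I EM) (decompose ℳ x) = _
  rw [decompose_of_mem ℳ hx, DirectSum.toAddMonoid_of]
  rfl

/-- The map on top cohomology attached to an element, as a linear map. -/
noncomputable def eta : M →ₗ[R] (I.H m n →ₗ[R] EM.H m n) where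
  toFun := etaHom m n I EM
  map_add' := map_add _
  map_smul' r x := by
    rw [RingHom.id_apply]
    induction r using H4Gr.induction 𝒜 with
    | zero => simp
    | add a b ha hb => rw [add_smul, map_add, ha, hb, add_smul]
    | hom i r hr =>
      induction x using H4Gr.induction ℳ with
      | zero => simp
      | add a b ha hb => rw [smul_add, map_add, map_add, smul_add, ha, hb]
      | hom j x hx =>
        rw [etaHom_of_mem m n I EM (H4Gr.smul_mem 𝒜 hr hx), etaHom_of_mem m n I EM hx]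
        have hid := H4Gr.isGrHomDeg_smul_id (ℳ := 𝒜) hr
        have heq : LinearMap.toSpanSingleton R M (r • x) =
            LinearMap.toSpanSingleton R M x ∘ₗ (r • (LinearMap.id : R →ₗ[R] R)) :=
          LinearMap.ext fun t => show t • r • x = (r • t) • x by rw [smul_eq_mul, ← mul_smul, mul_comm]
        rw [H4Gr.hmap_congr m _ (H4Gr.isGrHomDeg_comp (isGrHomDeg_toSpan hx) hid) heq rfl n,
          H4Gr.hmap_comp m (E := I) (E' := I) hid (isGrHomDeg_toSpan hx) n, H4Gr.hmap_smul_id m I hr hid n]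
        exact LinearMap.ext fun h => map_smul (H4Gr.hmap m I EM _ (isGrHomDeg_toSpan hx) n) r h

theorem eta_mem {i j : ℤ} {x : M} (hx : x ∈ ℳ j) {h : I.H m n} (hh : h ∈ I.Hgr m n i) :
    eta m n I EM x h ∈ EM.Hgr m n (i + j) := by
  show etaHom m n I EM x h ∈ _
  rw [etaHom_of_mem m n I EM hx]
  exact H4Gr.isGrHomDeg_hmap m I EM _ (isGrHomDeg_toSpan hx) n i h hh

theorem hmap_eta (f : M →ₗ[R] N) {e : ℤ} (hf : GrLC.IsGrHomDeg ℳ 𝒩 f e) (x : M) (h : I.H m n) :
    H4Gr.hmap m EM EN f hf n (eta m n I EM x h) = eta m n I EN (f x) h := by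
  induction x using H4Gr.induction ℳ with
  | zero => simp
  | add a b ha hb => simp only [map_add, LinearMap.add_apply, ha, hb]
  | hom j x hx =>
    show _ = etaHom m n I EN (f x) h
    rw [show eta m n I EM x = etaHom m n I EM x from rfl, etaHom_of_mem m n I EM hx,
      etaHom_of_mem m n I EN (hf j x hx)]
    have heq : LinearMap.toSpanSingleton R N (f x) = f ∘ₗ LinearMap.toSpanSingleton R M x :=
      LinearMap.ext fun t => (map_smul f t x).symm
    rw [H4Gr.hmap_congr m _ (H4Gr.isGrHomDeg_comp hf (isGrHomDeg_toSpan hx)) heq rfl n,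
      H4Gr.hmap_comp m (E := I) (E' := EM) (isGrHomDeg_toSpan hx) hf n]
    rfl

section Exact

variable (hn : ringKrullDim R ≤ n)

include hn in
theorem hmap_surjective {π : M →ₗ[R] N} (hπ : GrLC.IsGrHom ℳ 𝒩 π) (hπs : Function.Surjective π)
    (hπ' : GrLC.IsGrHomDeg ℳ 𝒩 π 0) : Function.Surjective (H4Gr.hmap m EM EN π hπ' n) := by
  have hker := H4Gr.isHomogeneous_ker hπ'
  let A := H4Gr.subMod 𝒜 (LinearMap.ker π) hker
  obtain ⟨EA⟩ := H4Gr.nonempty_starInjRes (𝒜 := 𝒜) (ℳ := A.gr)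
  obtain ⟨δ, -, -, -, hex, -⟩ := H4Gr.exists_les EA EN (H4Gr.isGrHomDeg_zero_iff.2 (H4Gr.isGrHom_subIncl _ hker))
    Subtype.val_injective hπ hπs (LinearMap.exact_subtype_ker_map π) m EM
  intro y
  exact (hex n y).1 (H4Gr.H_eq_zero_of_dim_lt m hn n.lt_succ_self EA _)

include hn in
theorem exists_of_hmap_eq_zero {π : M →ₗ[R] N} (hπ : GrLC.IsGrHom ℳ 𝒩 π) (hπs : Function.Surjective π)
    (hπ' : GrLC.IsGrHomDeg ℳ 𝒩 π 0) {y : EM.H m n} (hy : H4Gr.hmap m EM EN π hπ' n y = 0) :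
    ∀ EA : GrLC.StarInjRes 𝒜 (H4Gr.subMod 𝒜 (LinearMap.ker π) (H4Gr.isHomogeneous_ker hπ')).gr,
      y ∈ LinearMap.range (H4Gr.hmap m EA EM (H4Gr.subIncl 𝒜 _ (H4Gr.isHomogeneous_ker hπ'))
        (H4Gr.isGrHomDeg_zero_iff.2 (H4Gr.isGrHom_subIncl _ _)) n) := fun EA => by
  obtain ⟨δ, -, -, hex, -, -⟩ := H4Gr.exists_les EA EN
    (H4Gr.isGrHomDeg_zero_iff.2 (H4Gr.isGrHom_subIncl _ (H4Gr.isHomogeneous_ker hπ')))
    Subtype.val_injective hπ hπs (LinearMap.exact_subtype_ker_map π) m EM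
  exact (hex n y).1 hy

end Exact

section Props

variable {k : Type u} [Field k] [Algebra k R]
  {K : Type u} [AddCommGroup K] [Module R K] [Module k K] [IsScalarTower k R K] (βK : K → I.H m n → k)

/-- The top cohomology is spanned by the images of the elements. -/
def SpanP (X : GrLC.GMod.{u} 𝒜) : Prop :=
  ∀ E : GrLC.StarInjRes 𝒜 X.gr,
    Submodule.span R (Set.range fun p : X.carrier × I.H m n => eta m n I E p.1 p.2) = ⊤

/-- Every map into the dual of the top cohomology of the ring comes from a functional. -/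
def LiftP (X : GrLC.GMod.{u} 𝒜) : Prop :=
  ∀ (E : GrLC.StarInjRes 𝒜 X.gr) (f : X.carrier →ₗ[R] K),
    ∃ l : E.H m n →+ k, (∀ (c : k) y, l (algebraMap k R c • y) = c * l y) ∧
      ∀ x h, l (eta m n I E x h) = βK (f x) h

variable (hn : ringKrullDim R ≤ n)

include hn in
theorem spanP_of_surjective {X Y : GrLC.GMod.{u} 𝒜} {π : X.carrier →ₗ[R] Y.carrier}
    (hπ : GrLC.IsGrHom X.gr Y.gr π) (hπs : Function.Surjective π) (hX : SpanP m n I X) : SpanP m n I Y := by
  intro EY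
  obtain ⟨EX⟩ := H4Gr.nonempty_starInjRes (𝒜 := 𝒜) (ℳ := X.gr)
  refine Submodule.eq_top_iff'.2 fun y => ?_
  obtain ⟨x, rfl⟩ := hmap_surjective m n EX EY hn hπ hπs (H4Gr.isGrHomDeg_zero_iff.2 hπ) y
  have hx : x ∈ Submodule.span R (Set.range fun p : X.carrier × I.H m n => eta m n I EX p.1 p.2) :=
    (hX EX).ge Submodule.mem_top
  induction hx using Submodule.span_induction with
  | mem x hx =>
    obtain ⟨⟨a, h⟩, rfl⟩ := hx
    rw [hmap_eta]
    exact Submodule.subset_span ⟨(π a, h), rfl⟩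
  | zero => rw [map_zero]; exact zero_mem _
  | add a b _ _ ha hb => rw [map_add]; exact add_mem ha hb
  | smul r a _ ha => rw [map_smul]; exact Submodule.smul_mem _ r ha

theorem spanP_prod {A B : GrLC.GMod.{u} 𝒜} (hA : SpanP m n I A) (hB : SpanP m n I B) :
    SpanP m n I (H4Gr.prodMod A B) := by
  intro E
  letI : Decomposition (H4Gr.prodMod A B).gr := (H4Gr.prodMod A B).dec
  haveI : SetLike.GradedSMul 𝒜 (H4Gr.prodMod A B).gr := (H4Gr.prodMod A B).gsmul
  let X := H4Gr.prodMod A B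
  obtain ⟨EA⟩ := H4Gr.nonempty_starInjRes (𝒜 := 𝒜) (ℳ := A.gr)
  obtain ⟨EB⟩ := H4Gr.nonempty_starInjRes (𝒜 := 𝒜) (ℳ := B.gr)
  let iA : A.carrier →ₗ[R] X.carrier := LinearMap.inl R A.carrier B.carrier
  let iB : B.carrier →ₗ[R] X.carrier := LinearMap.inr R A.carrier B.carrier
  let pA : X.carrier →ₗ[R] A.carrier := LinearMap.fst R A.carrier B.carrier
  let pB : X.carrier →ₗ[R] B.carrier := LinearMap.snd R A.carrier B.carrier
  have hiA : GrLC.IsGrHomDeg A.gr X.gr iA 0 := H4Gr.isGrHomDeg_zero_iff.2 fun g x hx => ⟨hx, zero_mem _⟩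
  have hiB : GrLC.IsGrHomDeg B.gr X.gr iB 0 := H4Gr.isGrHomDeg_zero_iff.2 fun g x hx => ⟨zero_mem _, hx⟩
  have hpA : GrLC.IsGrHomDeg X.gr A.gr pA 0 := H4Gr.isGrHomDeg_zero_iff.2 fun g x hx => hx.1
  have hpB : GrLC.IsGrHomDeg X.gr B.gr pB 0 := H4Gr.isGrHomDeg_zero_iff.2 fun g x hx => hx.2
  refine Submodule.eq_top_iff'.2 fun y => ?_
  have h1 : GrLC.IsGrHomDeg X.gr X.gr (iA ∘ₗ pA) 0 := H4Gr.isGrHomDeg_zero_iff.2 fun g x hx => ⟨hx.1, zero_mem _⟩
  have h2 : GrLC.IsGrHomDeg X.gr X.gr (iB ∘ₗ pB) 0 := H4Gr.isGrHomDeg_zero_iff.2 fun g x hx => ⟨zero_mem _, hx.2⟩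
  have hid : H4Gr.hmap m E E LinearMap.id H4Gr.isGrHomDeg_id n =
      H4Gr.hmap m E E (iA ∘ₗ pA) h1 n + H4Gr.hmap m E E (iB ∘ₗ pB) h2 n := by
    rw [← hmap_add_map m n E E h1 h2 (fun g x hx => add_mem (h1 g x hx) (h2 g x hx))]
    refine H4Gr.hmap_congr m _ _ (LinearMap.ext fun x => Prod.ext ?_ ?_) rfl n
    · exact (add_zero x.1).symm
    · exact (zero_add x.2).symm
  have hy := LinearMap.congr_fun hid y
  rw [H4Gr.hmap_id, LinearMap.id_apply] at hy
  rw [hy, LinearMap.add_apply]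
  refine add_mem ?_ ?_
  · rw [H4Gr.hmap_congr m h1 (H4Gr.isGrHomDeg_comp hiA hpA) rfl (add_zero 0).symm n,
      H4Gr.hmap_comp m (E' := EA) hpA hiA n, LinearMap.comp_apply]
    have hx : H4Gr.hmap m E EA pA hpA n y ∈
        Submodule.span R (Set.range fun p : A.carrier × I.H m n => eta m n I EA p.1 p.2) := (hA EA).ge Submodule.mem_top
    generalize H4Gr.hmap m E EA pA hpA n y = w at hx ⊢
    induction hx using Submodule.span_induction with
    | mem x hx =>
      obtain ⟨⟨a, h⟩, rfl⟩ := hx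
      rw [hmap_eta]
      exact Submodule.subset_span ⟨(iA a, h), rfl⟩
    | zero => rw [map_zero]; exact zero_mem _
    | add a b _ _ ha hb => rw [map_add]; exact add_mem ha hb
    | smul r a _ ha => rw [map_smul]; exact Submodule.smul_mem _ r ha
  · rw [H4Gr.hmap_congr m h2 (H4Gr.isGrHomDeg_comp hiB hpB) rfl (add_zero 0).symm n,
      H4Gr.hmap_comp m (E' := EB) hpB hiB n, LinearMap.comp_apply]
    have hx : H4Gr.hmap m E EB pB hpB n y ∈
        Submodule.span R (Set.range fun p : B.carrier × I.H m n => eta m n I EB p.1 p.2) := (hB EB).ge Submodule.mem_top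
    generalize H4Gr.hmap m E EB pB hpB n y = w at hx ⊢
    induction hx using Submodule.span_induction with
    | mem x hx =>
      obtain ⟨⟨a, h⟩, rfl⟩ := hx
      rw [hmap_eta]
      exact Submodule.subset_span ⟨(iB a, h), rfl⟩
    | zero => rw [map_zero]; exact zero_mem _
    | add a b _ _ ha hb => rw [map_add]; exact add_mem ha hb
    | smul r a _ ha => rw [map_smul]; exact Submodule.smul_mem _ r ha

variable {βK} (hadd : ∀ a b h, βK (a + b) h = βK a h + βK b h)

include hadd in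
theorem liftP_prod {A B : GrLC.GMod.{u} 𝒜} (hA : LiftP m n I βK A) (hB : LiftP m n I βK B) :
    LiftP m n I βK (H4Gr.prodMod A B) := by
  intro E f
  letI : Decomposition (H4Gr.prodMod A B).gr := (H4Gr.prodMod A B).dec
  haveI : SetLike.GradedSMul 𝒜 (H4Gr.prodMod A B).gr := (H4Gr.prodMod A B).gsmul
  let X := H4Gr.prodMod A B
  obtain ⟨EA⟩ := H4Gr.nonempty_starInjRes (𝒜 := 𝒜) (ℳ := A.gr)
  obtain ⟨EB⟩ := H4Gr.nonempty_starInjRes (𝒜 := 𝒜) (ℳ := B.gr)
  let pA : X.carrier →ₗ[R] A.carrier := LinearMap.fst R A.carrier B.carrier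
  let pB : X.carrier →ₗ[R] B.carrier := LinearMap.snd R A.carrier B.carrier
  have hpA : GrLC.IsGrHomDeg X.gr A.gr pA 0 := H4Gr.isGrHomDeg_zero_iff.2 fun g x hx => hx.1
  have hpB : GrLC.IsGrHomDeg X.gr B.gr pB 0 := H4Gr.isGrHomDeg_zero_iff.2 fun g x hx => hx.2
  obtain ⟨lA, hlA, hlA'⟩ := hA EA (f ∘ₗ LinearMap.inl R A.carrier B.carrier)
  obtain ⟨lB, hlB, hlB'⟩ := hB EB (f ∘ₗ LinearMap.inr R A.carrier B.carrier)
  refine ⟨lA.comp (H4Gr.hmap m E EA pA hpA n).toAddMonoidHom + lB.comp (H4Gr.hmap m E EB pB hpB n).toAddMonoidHom,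
    fun c y => ?_, fun x h => ?_⟩
  · simp only [AddMonoidHom.add_apply, AddMonoidHom.comp_apply, LinearMap.toAddMonoidHom_coe, map_smul, hlA, hlB]
    ring
  · simp only [AddMonoidHom.add_apply, AddMonoidHom.comp_apply, LinearMap.toAddMonoidHom_coe, hmap_eta, hlA', hlB',
      LinearMap.comp_apply]
    rw [← hadd, ← map_add]
    exact congrArg (fun z => βK (f z) h) (Prod.ext (add_zero _) (zero_add _))

include hn in
theorem liftP_of_surjective {X Y : GrLC.GMod.{u} 𝒜} {π : X.carrier →ₗ[R] Y.carrier}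
    (hπ : GrLC.IsGrHom X.gr Y.gr π) (hπs : Function.Surjective π) (hX : LiftP m n I βK X)
    (hA : SpanP m n I (H4Gr.subMod 𝒜 (LinearMap.ker π) (H4Gr.isHomogeneous_ker (H4Gr.isGrHomDeg_zero_iff.2 hπ))))
    (hsmul : ∀ (r : R) a h, βK (r • a) h = βK a (r • h)) (hzero : ∀ h, βK 0 h = 0) :
    LiftP m n I βK Y := by
  intro EY f
  have hπ' := H4Gr.isGrHomDeg_zero_iff.2 hπ
  obtain ⟨EX⟩ := H4Gr.nonempty_starInjRes (𝒜 := 𝒜) (ℳ := X.gr)
  obtain ⟨EA⟩ := H4Gr.nonempty_starInjRes (𝒜 := 𝒜)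
    (ℳ := (H4Gr.subMod 𝒜 (LinearMap.ker π) (H4Gr.isHomogeneous_ker hπ')).gr)
  obtain ⟨lX, hlX, hlX'⟩ := hX EX (f ∘ₗ π)
  set P := H4Gr.hmap m EX EY π hπ' n with hP
  have hker : ∀ y, P y = 0 → lX y = 0 := by
    intro y hy
    obtain ⟨a, rfl⟩ := exists_of_hmap_eq_zero m n EX EY hn hπ hπs hπ' hy EA
    clear hy
    have ha : a ∈ Submodule.span R (Set.range fun p : (H4Gr.subMod 𝒜 (LinearMap.ker π) (H4Gr.isHomogeneous_ker hπ')).carrier × I.H m n =>
      eta m n I EA p.1 p.2) := (hA EA).ge Submodule.mem_top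
    suffices ∀ r : R, lX (r • H4Gr.hmap m EA EX _ (H4Gr.isGrHomDeg_zero_iff.2 (H4Gr.isGrHom_subIncl _ _)) n a) = 0 by
      simpa using this 1
    induction ha using Submodule.span_induction with
    | mem a ha =>
      obtain ⟨⟨x, h⟩, rfl⟩ := ha
      intro r
      rw [hmap_eta, ← map_smul, hlX', LinearMap.comp_apply,
        show π (H4Gr.subIncl 𝒜 (LinearMap.ker π) (H4Gr.isHomogeneous_ker hπ') x) = 0 from
          LinearMap.mem_ker.1 x.2, map_zero, hzero]
    | zero => intro r; simp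
    | add a b _ _ ha hb => intro r; rw [map_add, smul_add, map_add, ha, hb, add_zero]
    | smul t a _ ha => intro r; rw [LinearMap.map_smul, smul_smul]; exact ha (r * t)
  choose s hs using hmap_surjective m n EX EY hn hπ hπs hπ'
  have hwd : ∀ y z, P y = z → lX (s z) = lX y := fun y z h => by
    rw [← sub_eq_zero, ← map_sub]
    exact hker _ (by rw [map_sub, hP, hs z, ← hP, h, sub_self])
  refine ⟨AddMonoidHom.mk' (fun z => lX (s z)) fun a b => ?_, fun c z => ?_, fun y h => ?_⟩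
  · rw [hwd (s a + s b) (a + b) (by rw [map_add, hP, hs, hs]), map_add]
  · show lX (s _) = _
    rw [hwd (algebraMap k R c • s z) _ (by rw [map_smul, hP, hs]), hlX]
    rfl
  · obtain ⟨x, rfl⟩ := hπs y
    show lX (s _) = _
    rw [hwd (eta m n I EX x h) _ (hmap_eta m n I EX EY π hπ' x h), hlX']
    rfl

/-- The ring with a shifted grading. -/
noncomputable abbrev shR (d : ℤ) : GrLC.GMod.{u} 𝒜 := H4Gr.shiftMod 𝒜 𝒜 d

noncomputable local instance instDecShR (d : ℤ) : Decomposition (H4Gr.shiftPieces 𝒜 d) := (shR (𝒜 := 𝒜) d).dec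

local instance instSMulShR (d : ℤ) : SetLike.GradedSMul 𝒜 (H4Gr.shiftPieces 𝒜 d) := (shR (𝒜 := 𝒜) d).gsmul

theorem isGrHomDeg_unit (d : ℤ) :
    GrLC.IsGrHomDeg 𝒜 (shR (𝒜 := 𝒜) d).gr (LinearMap.toSpanSingleton R R (1 : R)) (-d) := fun g x hx => by
  show x • (1 : R) ∈ 𝒜 (g + -d + d)
  rwa [smul_eq_mul, mul_one, neg_add_cancel_right]

theorem eta_shR (d : ℤ) (E : GrLC.StarInjRes 𝒜 (shR (𝒜 := 𝒜) d).gr) (r : R) (h : I.H m n) :
    eta m n I E r h = r • H4Gr.hmap m I E _ (isGrHomDeg_unit d) n h := by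
  let one : (shR (𝒜 := 𝒜) d).carrier := (1 : R)
  have h1 : one ∈ (shR (𝒜 := 𝒜) d).gr (-d) := by
    show (1 : R) ∈ 𝒜 (-d + d)
    rw [neg_add_cancel]; exact SetLike.one_mem_graded 𝒜
  have key : eta m n I E r = r • eta m n I E one := by
    rw [← map_smul]
    exact congrArg (eta m n I E) (show (r : R) = r • (1 : R) by rw [smul_eq_mul, mul_one])
  rw [key, LinearMap.smul_apply]
  show r • etaHom m n I E one h = _
  rw [etaHom_of_mem m n I E h1]
  rfl

theorem exists_unit_inv (d : ℤ) (E : GrLC.StarInjRes 𝒜 (shR (𝒜 := 𝒜) d).gr) :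
    ∃ inv : E.H m n →ₗ[R] I.H m n, (∀ y, H4Gr.hmap m I E _ (isGrHomDeg_unit d) n (inv y) = y) ∧
      ∀ h, inv (H4Gr.hmap m I E _ (isGrHomDeg_unit d) n h) = h := by
  letI : Decomposition (shR (𝒜 := 𝒜) d).gr := (shR (𝒜 := 𝒜) d).dec
  haveI : SetLike.GradedSMul 𝒜 (shR (𝒜 := 𝒜) d).gr := (shR (𝒜 := 𝒜) d).gsmul
  let b : (shR (𝒜 := 𝒜) d).carrier →ₗ[R] R := LinearMap.id
  have hb : GrLC.IsGrHomDeg (shR (𝒜 := 𝒜) d).gr 𝒜 b d := fun g x hx => hx
  refine ⟨H4Gr.hmap m E I b hb n, fun y => ?_, fun h => ?_⟩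
  · rw [← LinearMap.comp_apply, ← H4Gr.hmap_comp m hb (isGrHomDeg_unit d),
      H4Gr.hmap_congr m _ H4Gr.isGrHomDeg_id (f' := LinearMap.id)
        (LinearMap.ext fun x => show x • (1 : R) = x by rw [smul_eq_mul, mul_one]) (add_neg_cancel d), H4Gr.hmap_id]
    rfl
  · rw [← LinearMap.comp_apply, ← H4Gr.hmap_comp m (isGrHomDeg_unit d) hb,
      H4Gr.hmap_congr m _ H4Gr.isGrHomDeg_id (f' := LinearMap.id)
        (LinearMap.ext fun x => show x • (1 : R) = x by rw [smul_eq_mul, mul_one]) (neg_add_cancel d), H4Gr.hmap_id]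
    rfl

theorem spanP_shR (d : ℤ) : SpanP m n I (shR (𝒜 := 𝒜) d) := fun E => Submodule.eq_top_iff'.2 fun y => by
  obtain ⟨inv, h1, -⟩ := exists_unit_inv m n I d E
  exact Submodule.subset_span ⟨((1 : R), inv y), by
    show eta m n I E (1 : R) (inv y) = y
    rw [eta_shR, one_smul, h1]⟩

theorem liftP_shR (hsmul : ∀ (r : R) a h, βK (r • a) h = βK a (r • h))
    (hlin : ∀ (c : k) a h, βK a (algebraMap k R c • h) = c * βK a h)
    (hadd' : ∀ a g h, βK a (g + h) = βK a g + βK a h) (d : ℤ) : LiftP m n I βK (shR (𝒜 := 𝒜) d) := by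
  intro E f
  obtain ⟨inv, -, h2⟩ := exists_unit_inv m n I d E
  refine ⟨AddMonoidHom.mk' (fun y => βK (f (1 : R)) (inv y)) fun a b => by rw [map_add, hadd'], fun c y => ?_,
    fun r h => ?_⟩
  · show βK _ (inv _) = _
    rw [map_smul, hlin]
    rfl
  · show βK _ (inv _) = _
    rw [eta_shR, map_smul, h2, ← hsmul, ← map_smul]
    exact congrArg (fun z => βK (f z) h) (show (HSMul.hSMul (α := R) (β := R) r (1 : R)) = r by rw [smul_eq_mul, mul_one])

theorem spanP_of_subsingleton (X : GrLC.GMod.{u} 𝒜) [Subsingleton X.carrier] : SpanP m n I X := fun E => by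
  refine Submodule.eq_top_iff'.2 fun y => ?_
  have h0 : GrLC.IsGrHomDeg X.gr X.gr (0 : X.carrier →ₗ[R] X.carrier) 0 := fun _ _ _ => zero_mem _
  have := LinearMap.congr_fun ((H4Gr.hmap_id m E n).symm.trans
    ((H4Gr.hmap_congr m _ h0 (LinearMap.ext fun x => Subsingleton.elim _ _) rfl n).trans (hmap_zero_map m n E E h0))) y
  rw [LinearMap.id_apply, LinearMap.zero_apply] at this
  rw [this]; exact zero_mem _

theorem liftP_of_subsingleton (hzero : ∀ h, βK 0 h = 0) (X : GrLC.GMod.{u} 𝒜) [Subsingleton X.carrier] :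
    LiftP m n I βK X := fun E f =>
  ⟨0, fun c y => by simp, fun x h => by simp [Subsingleton.elim x 0, hzero]⟩

include hn hadd in
/-- Both properties hold for finite modules. -/
theorem spanP_and_liftP (hsmul : ∀ (r : R) a h, βK (r • a) h = βK a (r • h))
    (hlin : ∀ (c : k) a h, βK a (algebraMap k R c • h) = c * βK a h)
    (hadd' : ∀ a g h, βK a (g + h) = βK a g + βK a h) (X : GrLC.GMod.{u} 𝒜) [Module.Finite R X.carrier] :
    SpanP m n I X ∧ LiftP m n I βK X := by
  have hzero : ∀ h, βK 0 h = 0 := fun h => by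
    have := hadd 0 0 h
    rw [add_zero] at this
    simpa using this
  have key : ∀ (Y : GrLC.GMod.{u} 𝒜) [Module.Finite R Y.carrier],
      ∃ (F : GrLC.GMod.{u} 𝒜) (π : F.carrier →ₗ[R] Y.carrier), GrLC.IsGrHom F.gr Y.gr π ∧ Function.Surjective π ∧
        Module.Finite R F.carrier ∧ SpanP m n I F ∧ LiftP m n I βK F := by
    intro Y _
    obtain ⟨t, v, deg, hv, hspan⟩ := H4Gr.exists_homogeneous_generators 𝒜 Y.gr
    have : ∀ s : Finset (Fin t), ∃ (F : GrLC.GMod.{u} 𝒜) (π : F.carrier →ₗ[R] Y.carrier),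
        GrLC.IsGrHom F.gr Y.gr π ∧ Submodule.span R (v '' s) ≤ LinearMap.range π ∧
          Module.Finite R F.carrier ∧ SpanP m n I F ∧ LiftP m n I βK F := by
      intro s
      induction s using Finset.induction_on with
      | empty =>
        let Z := H4Gr.subMod 𝒜 (⊥ : Submodule R Y.carrier) (H4Gr.isHomogeneous_bot (ℳ := Y.gr))
        haveI : Subsingleton Z.carrier := inferInstanceAs (Subsingleton (⊥ : Submodule R Y.carrier))
        exact ⟨Z, H4Gr.subIncl 𝒜 _ _, H4Gr.isGrHom_subIncl _ _, by simp,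
          inferInstanceAs (Module.Finite R (⊥ : Submodule R Y.carrier)),
          spanP_of_subsingleton m n I Z, liftP_of_subsingleton m n I hzero Z⟩
      | insert a s ha ih =>
        obtain ⟨F, π, hπ, hle, hfin, hS, hL⟩ := ih
        refine ⟨H4Gr.prodMod (shR (𝒜 := 𝒜) (-deg a)) F, (LinearMap.toSpanSingleton R _ (v a)).coprod π,
          fun g x hx => ?_, ?_, ?_, spanP_prod m n I (spanP_shR m n I _) hS,
          liftP_prod m n I hadd (liftP_shR m n I hsmul hlin hadd' _) hL⟩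
        · refine add_mem ?_ (hπ g x.2 hx.2)
          show (x.1 : R) • v a ∈ Y.gr g
          have := H4Gr.smul_mem 𝒜 (show (x.1 : R) ∈ 𝒜 (g + -deg a) from hx.1) (hv a)
          rwa [neg_add_cancel_right] at this
        · rw [Submodule.span_le]
          rintro _ ⟨b, hb, rfl⟩
          rcases Finset.mem_insert.1 hb with rfl | hb
          · exact ⟨((1 : R), 0), show (1 : R) • v b + π 0 = v b by rw [one_smul, map_zero, add_zero]⟩
          · obtain ⟨w, hw⟩ := hle (Submodule.subset_span ⟨b, hb, rfl⟩)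
            exact ⟨((0 : R), w), show (0 : R) • v a + π w = v b by rw [zero_smul, zero_add, hw]⟩
        · haveI := hfin
          exact inferInstanceAs (Module.Finite R (R × F.carrier))
    obtain ⟨F, π, hπ, hle, hfin, hS, hL⟩ := this Finset.univ
    refine ⟨F, π, hπ, fun y => ?_, hfin, hS, hL⟩
    have hy : y ∈ Submodule.span R (Set.range v) := hspan ▸ Submodule.mem_top
    obtain ⟨w, hw⟩ := hle (show y ∈ Submodule.span R (v '' (Finset.univ : Finset (Fin t))) by simpa using hy)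
    exact ⟨w, hw⟩
  have hspanP : ∀ (Y : GrLC.GMod.{u} 𝒜) [Module.Finite R Y.carrier], SpanP m n I Y := fun Y _ => by
    obtain ⟨F, π, hπ, hs, -, hS, -⟩ := key Y
    exact spanP_of_surjective m n I hn hπ hs hS
  obtain ⟨F, π, hπ, hs, hfin, hS, hL⟩ := key X
  haveI := hfin
  haveI : Module.Finite R (H4Gr.subMod 𝒜 (LinearMap.ker π)
      (H4Gr.isHomogeneous_ker (H4Gr.isGrHomDeg_zero_iff.2 hπ))).carrier :=
    inferInstanceAs (Module.Finite R (LinearMap.ker π))
  exact ⟨spanP_of_surjective m n I hn hπ hs hS, liftP_of_surjective m n I hn hπ hs hL (hspanP _) hsmul hzero⟩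

end Props

section HomDual

variable {k : Type u} [Field k] [Algebra k R] (hn : ringKrullDim R ≤ n)
  [Module k (I.H m n)] [IsScalarTower k R (I.H m n)] [Decomposition (I.Hgr m n)]
  [Module k (EM.H m n)] [IsScalarTower k R (EM.H m n)] [Decomposition (EM.Hgr m n)]
  [Module k M] [IsScalarTower k R M] [Module.Finite R M]
  {K : Type u} [AddCommGroup K] [Module R K] [Module k K] [IsScalarTower k R K]
  {𝒦 : ℤ → AddSubgroup K} [Decomposition 𝒦] [SetLike.GradedSMul 𝒜 𝒦] {βK : K →ₗ[k] I.H m n →ₗ[k] k}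
  (hK : GrSeg.IsGDual R (I.Hgr m n) 𝒦 βK)
  {D : Type u} [AddCommGroup D] [Module R D] [Module k D] [IsScalarTower k R D]
  {𝒟 : ℤ → AddSubgroup D} [Decomposition 𝒟] [SetLike.GradedSMul 𝒜 𝒟] {βD : D →ₗ[k] EM.H m n →ₗ[k] k}
  (hD : GrSeg.IsGDual R (EM.Hgr m n) 𝒟 βD)

include hn hK hD in
/-- The dual of the top cohomology of a module as homomorphisms into the dual of that of the ring. -/
theorem exists_hom_equiv : ∃ ε : D ≃ₗ[R] (M →ₗ[R] K),
    GrLC.IsGrHom 𝒟 (fun d : ℤ => (GrLC.homDeg 𝒜 ℳ 𝒦 d).toAddSubgroup) ε.toLinearMap := by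
  let η := eta m n I EM
  let func : D → M → (I.H m n →ₗ[k] k) := fun d x => βD d ∘ₗ (η x).restrictScalars k
  have hrep : ∀ d x, ∃ y, ∀ h, βK y h = βD d (η x h) := fun d x => by
    induction x using H4Gr.induction ℳ with
    | zero => exact ⟨0, fun h => by simp⟩
    | add a b ha hb =>
      obtain ⟨y, hy⟩ := ha
      obtain ⟨z, hz⟩ := hb
      exact ⟨y + z, fun h => by simp only [map_add, LinearMap.add_apply, hy, hz]⟩
    | hom j x hx =>
      obtain ⟨s, hs⟩ := support_finite hD d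
      obtain ⟨y, hy⟩ := exists_rep hK (func d x) (s.image (· - j)) fun i hi h hh => hs (i + j)
        (fun h' => hi (Finset.mem_image.2 ⟨_, h', add_sub_cancel_right i j⟩)) _ (eta_mem m n I EM hx hh)
      exact ⟨y, hy⟩
  choose e he using hrep
  let εL : D →ₗ[R] (M →ₗ[R] K) :=
    { toFun := fun d =>
        { toFun := e d
          map_add' := fun a b => pair_inj hK fun h => by simp only [map_add, LinearMap.add_apply, he]
          map_smul' := fun r a => pair_inj hK fun h => by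
            rw [RingHom.id_apply, he, η.map_smul, LinearMap.smul_apply, hK.map_smul, he, (η a).map_smul] }
      map_add' := fun a b => LinearMap.ext fun x => pair_inj hK fun h => by
        show βK (e (a + b) x) h = βK (e a x + e b x) h
        simp only [map_add, LinearMap.add_apply, he]
      map_smul' := fun r a => LinearMap.ext fun x => pair_inj hK fun h => by
        show βK (e (r • a) x) h = βK (r • e a x) h
        rw [he, hD.map_smul, hK.map_smul, he, (η x).map_smul] }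
  have hε : ∀ d x h, βK (εL d x) h = βD d (η x h) := he
  have hgr : ∀ i, ∀ d ∈ 𝒟 i, ∀ j, ∀ x ∈ ℳ j, εL d x ∈ 𝒦 (j + i) := fun i d hd j x hx =>
    (mem_piece_iff hK (j + i)).2 fun l hl h hh => by
      rw [hε]
      exact hD.vanish i d hd (l + j) (by omega) _ (eta_mem m n I EM hx hh)
  haveI : Module.Finite R (GrLC.GMod.of 𝒜 M ℳ).carrier := inferInstanceAs (Module.Finite R M)
  obtain ⟨hspan, hlift⟩ := spanP_and_liftP (K := K) (βK := fun a h => βK a h) m n I hn
    (fun a b h => by simp only [map_add, LinearMap.add_apply]) (fun r a h => hK.map_smul r a h)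
    (fun c a h => by rw [algebraMap_smul, map_smul, smul_eq_mul]) (fun a g h => map_add (βK a) g h)
    (GrLC.GMod.of 𝒜 M ℳ)
  have hinj : Function.Injective εL := (injective_iff_map_eq_zero εL).2 fun d hd => pair_eq_zero hD fun y => by
    have hy : y ∈ Submodule.span R (Set.range fun p : M × I.H m n => η p.1 p.2) := (hspan EM).ge Submodule.mem_top
    suffices ∀ r : R, βD d (r • y) = 0 by simpa using this 1
    induction hy using Submodule.span_induction with
    | mem y hy =>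
      obtain ⟨⟨x, h⟩, rfl⟩ := hy
      intro r
      rw [← (η x).map_smul, ← hε, hd, LinearMap.zero_apply, map_zero, LinearMap.zero_apply]
    | zero => intro r; simp
    | add a b _ _ ha hb => intro r; rw [smul_add, map_add, ha, hb, add_zero]
    | smul t a _ ha => intro r; rw [smul_smul]; exact ha (r * t)
  have hsurj : Function.Surjective εL := by
    rw [← LinearMap.range_eq_top, eq_top_iff]
    intro f _
    obtain ⟨s, hs⟩ := H4Gr.exists_sum_homComp 𝒜 ℳ 𝒦 f
    rw [← hs]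
    refine sum_mem fun i _ => ?_
    set g := H4Gr.homComp 𝒜 f ℳ 𝒦 i
    have hg : GrLC.IsGrHomDeg ℳ 𝒦 g i := H4Gr.isGrHomDeg_homComp f i
    obtain ⟨l, hl, hl'⟩ := hlift EM g
    obtain ⟨d, hd, hdl⟩ := hD.exists_eq i
      { toFun := l, map_add' := map_add l, map_smul' := fun c y => by
          exact (congrArg l (algebraMap_smul R c y).symm).trans (hl c y) }
    refine ⟨d, LinearMap.ext fun x => pair_inj hK fun h => ?_⟩
    rw [hε]
    induction x using H4Gr.induction ℳ with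
    | zero => simp
    | add a b ha hb => simp only [map_add, LinearMap.add_apply, ha, hb]
    | hom j x hx =>
      induction h using H4Gr.induction (I.Hgr m n) with
      | zero => simp
      | add a b ha hb => simp only [map_add, ha, hb]
      | hom q h hh =>
        have hmem := eta_mem m n I EM hx hh
        by_cases hq : q + j = -i
        · rw [hdl _ (hq ▸ hmem)]
          exact hl' x h
        · rw [hD.vanish i d hd _ hq _ hmem, hK.vanish (j + i) _ (hg j x hx) q (by omega) h hh]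
  exact ⟨LinearEquiv.ofBijective εL ⟨hinj, hsurj⟩, fun i d hd j x hx => hgr i d hd j x hx⟩

end HomDual

end Groth.Agent.H4GD
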