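import Groth.Agent.H4GD.Artin
import Groth.Agent.H4Gr.PosLocal

/-!
# Existence of graded duals and of canonical modules
-/

set_option autoImplicit false
set_option linter.unusedSectionVars false
set_option linter.style.haveILetI false

universe u

open DirectSum

namespace Groth.Agent.H4GD

variable {k : Type u} [Field k] {R : Type u} [CommRing R] [Algebra k R]
  {M : Type u} [AddCommGroup M] [Module R M] [Module k M] [IsScalarTower k R M]

variable (k R M) in
/-- The functionals, with `R` acting by precomposition. -/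
@[nolint unusedArguments]
def Fun [Module R M] : Type u := M →ₗ[k] k

noncomputable instance : AddCommGroup (Fun k R M) := inferInstanceAs (AddCommGroup (M →ₗ[k] k))
noncomputable instance : Module k (Fun k R M) := inferInstanceAs (Module k (M →ₗ[k] k))

/-- A functional as a linear map. -/
noncomputable def Fun.lin : Fun k R M ≃ₗ[k] (M →ₗ[k] k) := LinearEquiv.refl k _

noncomputable instance : Module R (Fun k R M) where
  smul r f := Fun.lin.symm ((Fun.lin f).comp (Algebra.lsmul k k M r))
  one_smul f := LinearMap.ext fun x => congrArg (Fun.lin f) (one_smul R x)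
  mul_smul r s f := LinearMap.ext fun x => congrArg (Fun.lin f) ((congrArg (· • x) (mul_comm r s)).trans (mul_smul s r x))
  smul_zero r := LinearMap.ext fun _ => rfl
  smul_add r f g := LinearMap.ext fun _ => rfl
  add_smul r s f := LinearMap.ext fun x => (congrArg (Fun.lin f) (add_smul r s x)).trans (map_add _ _ _)
  zero_smul f := LinearMap.ext fun x => (congrArg (Fun.lin f) (zero_smul R x)).trans (map_zero _)

theorem Fun.smul_apply (r : R) (f : Fun k R M) (x : M) : Fun.lin (r • f) x = Fun.lin f (r • x) := rfl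

instance : IsScalarTower k R (Fun k R M) :=
  ⟨fun c r f => LinearMap.ext fun x => by
    show Fun.lin ((c • r) • f) x = Fun.lin (c • r • f) x
    rw [LinearEquiv.map_smul Fun.lin c, LinearMap.smul_apply, Fun.smul_apply, Fun.smul_apply, smul_assoc, map_smul]⟩

variable {𝒜 : ℤ → AddSubgroup R} [GradedRing 𝒜] (hk : ∀ c : k, algebraMap k R c ∈ 𝒜 0)
  (hsurj : ∀ x ∈ 𝒜 0, ∃ c : k, algebraMap k R c = x)
  (ℳ : ℤ → AddSubgroup M) [Decomposition ℳ] [SetLike.GradedSMul 𝒜 ℳ]

variable (𝒜 k) in
/-- The functionals supported in finitely many degrees. -/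
def finSupp : Submodule R (Fun k R M) where
  carrier := {f | ∃ s : Finset ℤ, ∀ j ∉ s, ∀ x ∈ ℳ j, Fun.lin f x = 0}
  zero_mem' := ⟨∅, fun _ _ _ _ => rfl⟩
  add_mem' := by
    rintro f g ⟨s, hs⟩ ⟨t, ht⟩
    refine ⟨s ∪ t, fun j hj x hx => ?_⟩
    rw [Finset.mem_union, not_or] at hj
    rw [map_add, LinearMap.add_apply, hs j hj.1 x hx, ht j hj.2 x hx, add_zero]
  smul_mem' r f := by
    rintro ⟨s, hs⟩
    induction r using H4Gr.induction 𝒜 with
    | zero => exact ⟨∅, fun j _ x _ => by rw [Fun.smul_apply, zero_smul, map_zero]⟩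
    | add a b ha hb =>
      obtain ⟨s₁, h₁⟩ := ha; obtain ⟨s₂, h₂⟩ := hb
      refine ⟨s₁ ∪ s₂, fun j hj x hx => ?_⟩
      rw [Finset.mem_union, not_or] at hj
      rw [add_smul, map_add, LinearMap.add_apply, h₁ j hj.1 x hx, h₂ j hj.2 x hx, add_zero]
    | hom i r hr =>
      refine ⟨s.image (· - i), fun j hj x hx => ?_⟩
      rw [Fun.smul_apply]
      exact hs (i + j) (fun h => hj (Finset.mem_image.2 ⟨i + j, h, add_sub_cancel_left i j⟩)) _
        (H4Gr.smul_mem 𝒜 hr hx)

variable (𝒜 k) in
/-- The functionals on one piece. -/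
def dualPiece (g : ℤ) : AddSubgroup (finSupp k 𝒜 ℳ) where
  carrier := {f | ∀ j, j ≠ -g → ∀ x ∈ ℳ j, Fun.lin f.1 x = 0}
  zero_mem' _ _ _ _ := rfl
  add_mem' {f g} hf hg j hj x hx := by
    rw [Submodule.coe_add, map_add, LinearMap.add_apply, hf j hj x hx, hg j hj x hx, add_zero]
  neg_mem' {f} hf j hj x hx := by
    rw [Submodule.coe_neg, map_neg, LinearMap.neg_apply, hf j hj x hx, neg_zero]

/-- The projection to one piece. -/
noncomputable def dualProj (g : ℤ) (f : Fun k R M) : finSupp k 𝒜 ℳ :=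
  ⟨Fun.lin.symm ((Fun.lin f).comp (projK hk ℳ (-g))), {-g}, fun j hj x hx => by
    show Fun.lin f (H4Gr.proj ℳ (-g) x) = 0
    rw [H4Gr.proj_ne hx (Finset.notMem_singleton.1 hj), map_zero]⟩

theorem dualProj_apply (g : ℤ) (f : Fun k R M) (x : M) :
    Fun.lin (dualProj hk ℳ g f).1 x = Fun.lin f (H4Gr.proj ℳ (-g) x) := rfl

theorem dualProj_mem (g : ℤ) (f : Fun k R M) : dualProj hk ℳ g f ∈ dualPiece k 𝒜 ℳ g := fun j hj x hx => by
  rw [dualProj_apply, H4Gr.proj_ne hx hj, map_zero]

include hk in
theorem isInternal_dualPiece : DirectSum.IsInternal (dualPiece k 𝒜 ℳ) := by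
  refine H4Gr.isInternal_of _ (fun g => AddMonoidHom.mk' (fun f => dualProj hk ℳ g f.1) fun a b =>
      Subtype.ext (LinearMap.ext fun x => rfl))
    (fun g f => dualProj_mem hk ℳ g f.1) (fun g f hf h => Subtype.ext (LinearMap.ext fun x => ?_)) fun f => ?_
  · show Fun.lin (dualProj hk ℳ h f.1).1 x = Fun.lin (if g = h then f else 0).1 x
    rw [dualProj_apply]
    induction x using H4Gr.induction ℳ with
    | zero => simp only [map_zero]
    | add a b ha hb => simp only [map_add, ha, hb]
    | hom j x hx =>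
      split_ifs with hgh
      · subst hgh
        by_cases hj : j = -g
        · subst hj; rw [H4Gr.proj_same hx]
        · rw [H4Gr.proj_ne hx hj, map_zero, hf j hj x hx]
      · by_cases hj : j = -h
        · subst hj; rw [H4Gr.proj_same hx]
          exact hf _ (by omega) x hx
        · rw [H4Gr.proj_ne hx hj, map_zero]
          rfl
  · obtain ⟨s, hs⟩ := f.2
    have e : f = ∑ g ∈ s.image (- ·), dualProj hk ℳ g f.1 := Subtype.ext (LinearMap.ext fun x => by
      show Fun.lin f.1 x = Fun.lin (∑ g ∈ s.image (- ·), dualProj hk ℳ g f.1 : finSupp k 𝒜 ℳ).1 x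
      rw [Submodule.coe_sum, map_sum, LinearMap.sum_apply]
      simp only [dualProj_apply]
      induction x using H4Gr.induction ℳ with
      | zero => simp
      | add a b ha hb => simp only [map_add, Finset.sum_add_distrib, ha, hb]
      | hom j x hx =>
        by_cases hj : j ∈ s
        · rw [Finset.sum_eq_single (-j) (fun g _ hg => by rw [H4Gr.proj_ne hx (by omega), map_zero])
            (fun h => absurd (Finset.mem_image.2 ⟨j, hj, rfl⟩) h), H4Gr.proj_same (by rwa [neg_neg])]
        · rw [hs j hj x hx]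
          refine (Finset.sum_eq_zero fun g hg => ?_).symm
          obtain ⟨a, ha, rfl⟩ := Finset.mem_image.1 hg
          rw [H4Gr.proj_ne hx (by simp only [neg_neg]; exact fun e => hj (e ▸ ha)), map_zero])
    rw [e]
    exact sum_mem fun g _ => AddSubgroup.mem_iSup_of_mem g (dualProj_mem hk ℳ g f.1)

theorem gradedSMul_dualPiece : SetLike.GradedSMul 𝒜 (dualPiece k 𝒜 ℳ) :=
  ⟨fun {i g r f} hr hf j hj x hx => by
    show Fun.lin (r • f.1) x = 0
    rw [Fun.smul_apply]
    refine hf (i + j) (fun e => hj ?_) _ (H4Gr.smul_mem 𝒜 hr hx)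
    simp only [vadd_eq_add]
    omega⟩

include hk in
/-- Every graded module has a graded dual. -/
theorem exists_gdual : ∃ (X : GrLC.GMod.{u} 𝒜) (_ : Module k X.carrier) (_ : IsScalarTower k R X.carrier)
    (β : X.carrier →ₗ[k] M →ₗ[k] k), GrSeg.IsGDual R ℳ X.gr β := by
  letI : Decomposition (dualPiece k 𝒜 ℳ) := (isInternal_dualPiece hk ℳ).chooseDecomposition
  haveI := gradedSMul_dualPiece (k := k) (𝒜 := 𝒜) ℳ
  refine ⟨{ carrier := finSupp k 𝒜 ℳ, gr := dualPiece k 𝒜 ℳ, dec := inferInstance, gsmul := inferInstance },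
    inferInstanceAs (Module k (finSupp k 𝒜 ℳ)), inferInstanceAs (IsScalarTower k R (finSupp k 𝒜 ℳ)),
    Fun.lin.toLinearMap ∘ₗ ((finSupp k 𝒜 ℳ).subtype.restrictScalars k),
    { map_smul := fun r d x => rfl
      vanish := fun n d hd => hd
      eq_zero := fun n d hd h => Subtype.ext (LinearMap.ext fun x => ?_)
      exists_eq := fun n g => ⟨dualProj hk ℳ n (Fun.lin.symm g), dualProj_mem hk ℳ n _, fun x hx => by
        show Fun.lin (dualProj hk ℳ n (Fun.lin.symm g)).1 x = g x
        rw [dualProj_apply, H4Gr.proj_same hx, LinearEquiv.apply_symm_apply]⟩ }⟩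
  show Fun.lin d.1 x = 0
  induction x using H4Gr.induction ℳ with
  | zero => exact map_zero _
  | add a b ha hb => rw [map_add, ha, hb, add_zero]
  | hom j x hx =>
    by_cases hj : j = -n
    · subst hj; exact h x hx
    · exact hd j hj x hx

end Groth.Agent.H4GD
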