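import Groth.Agent.H4Gr.StarGorenstein
import Groth.Agent.H4Gr.InjDim
import Groth.Agent.H4Gr.BassShift
import Groth.Agent.H4Gr.LES
import Groth.Agent.H4LC.Depth
import Groth.Agent.H4LC.CdDim
import Groth.Agent.H02CA.GorFlat

/-!
# Gorenstein *local rings
-/

set_option autoImplicit false
set_option linter.unusedSectionVars false
set_option linter.style.haveILetI false

universe u

open DirectSum CategoryTheory IsLocalRing

namespace Groth.Agent.H4GD

section Local

/-- A Cohen–Macaulay local ring with injective top local cohomology is Gorenstein. -/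
theorem gor_of_injective_H (A : Type u) [CommRing A] [LocCoh.IsCohenMacaulayLocalRing A] {n : ℕ}
    (hn : ringKrullDim A = n) (h : Module.Injective A (LocCoh.H (maximalIdeal A) n A)) :
    LocCoh.IsGorensteinLocalRing A := by
  refine (H4Goren.isGorenstein_iff_H A).2 ⟨n, fun i hi => ?_, h⟩
  rcases Nat.lt_or_gt_of_ne hi with hlt | hgt
  · refine H4LC.subsingleton_H_of_lt_idealDepth _ _ ?_
    have hd := LocCoh.IsCohenMacaulayLocalRing.supportDim_eq_depth (R := A)
    rw [Module.supportDim_self_eq_ringKrullDim, hn] at hd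
    have : LocCoh.depth A A = (n : ℕ∞) := by exact_mod_cast hd.symm
    rw [show LocCoh.idealDepth (maximalIdeal A) A = LocCoh.depth A A from rfl, this]
    exact_mod_cast hlt
  · exact H4LC.cdLE_of_ringKrullDim_le (I := maximalIdeal A) hn.le A i hgt

end Local

variable {ι : Type} [AddCommGroup ι] [DecidableEq ι] [Module.Free ℤ ι] [Module.Finite ℤ ι]
variable {R : Type u} [CommRing R] [IsNoetherianRing R] {𝒜 : ι → AddSubgroup R} [GradedRing 𝒜]
  {m : HomogeneousIdeal 𝒜}

theorem bassNum_self_eq_zero_iff (p : Ideal R) [p.IsPrime] (i : ℕ) :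
    GrLC.bassNum p R i = 0 ↔ Subsingleton (Abelian.Ext.{u}
      (ModuleCat.of (Localization.AtPrime p) (ResidueField (Localization.AtPrime p)))
      (ModuleCat.of (Localization.AtPrime p) (Localization.AtPrime p)) i) := by
  show Module.length _ _ = 0 ↔ _
  rw [Module.length_eq_zero_iff]

/-- Gorenstein at the *maximal ideal means Gorenstein. -/
theorem isGorensteinRing_of_localization (hm : GrLC.IsStarLocal 𝒜 m) [m.toIdeal.IsPrime]
    (h : LocCoh.IsGorensteinLocalRing (Localization.AtPrime m.toIdeal)) : LocCoh.IsGorensteinRing R := by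
  refine { isGorensteinLocalRing_localization := fun q hq => ?_ }
  haveI : IsNoetherianRing (Localization.AtPrime q) := IsLocalization.isNoetherianRing q.primeCompl _ inferInstance
  haveI : (q.homogeneousCore 𝒜).toIdeal.IsPrime :=
    H4Gr.isPrime_of_homogeneous (q.homogeneousCore 𝒜).isHomogeneous
      (ne_top_of_le_ne_top hq.ne_top (Ideal.toIdeal_homogeneousCore_le 𝒜 q)) fun {i j x y} hx hy hxy =>
        (hq.mem_or_mem (Ideal.toIdeal_homogeneousCore_le 𝒜 q hxy)).imp (H4Gr.mem_core_of_mem 𝒜 hx) (H4Gr.mem_core_of_mem 𝒜 hy)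
  set c := (q.homogeneousCore 𝒜).toIdeal
  have hcm : c ≤ m.toIdeal := H4Gr.le_of_isStarLocal hm (q.homogeneousCore 𝒜).isHomogeneous
    (ne_top_of_le_ne_top hq.ne_top (Ideal.toIdeal_homogeneousCore_le 𝒜 q))
  have hc : LocCoh.IsGorensteinLocalRing (Localization.AtPrime c) := by
    haveI := h
    let L := Localization.AtPrime m.toIdeal
    have hdisj : Disjoint (m.toIdeal.primeCompl : Set R) c := Set.disjoint_left.2 fun x hx hxc => hx (hcm hxc)
    haveI : (c.map (algebraMap R L)).IsPrime :=
      IsLocalization.isPrime_of_isPrime_disjoint m.toIdeal.primeCompl L c inferInstance hdisj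
    have hg := (H02CA.GorFlat.gor_localization_iff m.toIdeal.primeCompl L (c.map (algebraMap R L))).1
      ((H02CA.GorFlat.isGorensteinRing_of_local L).isGorensteinLocalRing_localization _)
    exact (H02CA.GorFlat.gor_congr (IsLocalization.under_map_of_isPrime_disjoint m.toIdeal.primeCompl L inferInstance hdisj)).1 hg
  obtain ⟨N, hN⟩ := (H4Goren.isGorensteinLocalRing_iff_ext _).1 hc
  obtain ⟨d, hd⟩ : ∃ d : ℕ, H4Gr.hgt c q = d := by
    haveI : (q.map (Ideal.Quotient.mk c)).IsPrime := Ideal.map_isPrime_of_surjective Ideal.Quotient.mk_surjective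
      (by rw [Ideal.mk_ker]; exact Ideal.toIdeal_homogeneousCore_le 𝒜 q)
    obtain ⟨d, hd⟩ := ENat.ne_top_iff_exists.1 (Ideal.height_ne_top (I := q.map (Ideal.Quotient.mk c)) Ideal.IsPrime.ne_top')
    exact ⟨d, hd.symm⟩
  obtain ⟨-, hshift⟩ := H4Gr.bassNum_shift (M := R) 𝒜 q d hd
  refine (H4Goren.isGorensteinLocalRing_iff_ext _).2 ⟨N + d, fun i hi => ?_⟩
  rw [← bassNum_self_eq_zero_iff]
  obtain ⟨j, rfl⟩ : ∃ j, i = j + d := ⟨i - d, by omega⟩
  rw [hshift, bassNum_self_eq_zero_iff]
  exact hN j (by omega)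

/-- The localisation of a torsion *injective module at the *maximal ideal is injective. -/
theorem injective_localized {X : Type u} [AddCommGroup X] [Module R X] {𝒳 : ι → AddSubgroup X} [Decomposition 𝒳]
    [SetLike.GradedSMul 𝒜 𝒳] (hX : GrLC.IsStarInj 𝒜 𝒳) [m.toIdeal.IsPrime]
    (htors : GrLC.gam m.toIdeal X = ⊤) :
    Module.Injective (Localization.AtPrime m.toIdeal) (LocalizedModule m.toIdeal.primeCompl X) := by
  haveI : IsNoetherianRing (Localization.AtPrime m.toIdeal) :=
    IsLocalization.isNoetherianRing m.toIdeal.primeCompl _ inferInstance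
  refine H4Goren.injective_of_torsion_of_ext_one ?_ ?_
  · intro z
    induction z using LocalizedModule.induction_on with
    | _ x s =>
      obtain ⟨N, hN⟩ := (htors ▸ Submodule.mem_top : x ∈ GrLC.gam m.toIdeal X)
      refine ⟨N, fun r hr => ?_⟩
      rw [← Localization.AtPrime.map_eq_maximalIdeal, ← Ideal.map_pow] at hr
      induction hr using Submodule.span_induction with
      | mem r hr =>
        obtain ⟨a, ha, rfl⟩ := hr
        rw [algebraMap_smul, LocalizedModule.smul'_mk, hN a ha, LocalizedModule.zero_mk]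
      | zero => exact zero_smul _ _
      | add a b _ _ ha hb => rw [add_smul, ha, hb, add_zero]
      | smul t a _ ha => rw [smul_eq_mul, mul_smul, ha, smul_zero]
  · exact (Module.length_eq_zero_iff (R := Localization.AtPrime m.toIdeal)).1
      (H4Gr.bassNum_eq_zero_of_isStarInj hX m.isHomogeneous 0)

/-- A Cohen–Macaulay *local ring is Gorenstein iff its top local cohomology is *injective. -/
theorem isGorensteinRing_iff_starInj_H [LocCoh.IsCohenMacaulayRing R] (hm : GrLC.IsStarLocal 𝒜 m) {n : ℕ}
    (hn : m.toIdeal.height = n) (I : GrLC.StarInjRes 𝒜 𝒜) :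
    LocCoh.IsGorensteinRing R ↔ ∃ (X : GrLC.GMod.{u} 𝒜) (φ : I.H m n ≃ₗ[R] X.carrier),
      GrLC.IsStarInj 𝒜 X.gr ∧ GrLC.IsGrHom (I.Hgr m n) X.gr φ.toLinearMap := by
  constructor
  · intro h
    letI := (H4Gr.isInternal_Hgr m I n).chooseDecomposition
    haveI := H4Gr.gradedSMul_Hgr m I n
    obtain ⟨g, e, he⟩ := H4Gr.exists_hull_H_top hm n hn I
    exact ⟨GrLC.GMod.of 𝒜 (I.H m n) (I.Hgr m n), LinearEquiv.refl R _, he.starInj, fun _ _ h => h⟩
  · rintro ⟨X, φ, hX, -⟩
    haveI := H4Gr.isPrime_of_isStarLocal hm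
    let L := Localization.AtPrime m.toIdeal
    let S := m.toIdeal.primeCompl
    haveI := LocCoh.IsCohenMacaulayRing.isCohenMacaulayLocalRing_localization (R := R) m.toIdeal
    have hd : ringKrullDim L = n := by
      rw [IsLocalization.AtPrime.ringKrullDim_eq_height m.toIdeal L, hn]; rfl
    obtain ⟨eH⟩ := H4Gr.nonempty_H_equiv m I n
    have htors : GrLC.gam m.toIdeal X.carrier = ⊤ := eq_top_iff.2 fun x _ => by
      have h1 : φ.symm x ∈ GrLC.gam m.toIdeal (I.H m n) := H4Gr.gam_H_eq_top m I n ▸ Submodule.mem_top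
      simpa using H4Gr.map_mem_gam φ.toLinearMap h1
    have hinj := injective_localized (m := m) hX htors
    obtain ⟨e⟩ := H4LC.nonempty_localization_H m.toIdeal R S n
    obtain ⟨e₀⟩ := H4Depth.exists_localizedModule_self_equiv m.toIdeal
    let e₁ := ((localCohomology (m.toIdeal.map (algebraMap R L)) n).mapIso e₀.toModuleIso).toLinearEquiv
    let e₂ : LocalizedModule S X.carrier ≃ₗ[L] LocalizedModule S (LocCoh.H m.toIdeal n R) :=
      IsLocalizedModule.mapEquiv S (LocalizedModule.mkLinearMap S _) (LocalizedModule.mkLinearMap S _)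
        (Localization S) (φ.symm.trans eH)
    have key : ∀ J : Ideal L, J = maximalIdeal L → ∀ e' : LocalizedModule S X.carrier ≃ₗ[L] LocCoh.H J n L,
        Module.Injective L (LocCoh.H (maximalIdeal L) n L) := by
      intro J hJ e'
      subst hJ
      exact H4Inj.injective_of_equiv e'.symm hinj
    exact isGorensteinRing_of_localization hm (gor_of_injective_H L hd
      (key _ Localization.AtPrime.map_eq_maximalIdeal (e₂.trans (e.trans e₁))))

end Groth.Agent.H4GD
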