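import Groth.Agent.H4GD.Canon
import Groth.Agent.H4GD.StarGor
import Groth.Agent.H4Gr.Dim
import Groth.Agent.S13244

/-!
# Gorenstein rings and canonical modules over a field
-/

set_option autoImplicit false
set_option linter.unusedSectionVars false
set_option linter.style.haveILetI false

universe u

open DirectSum

namespace Groth.Agent.H4GD

variable {k : Type u} [Field k] {R : Type u} [CommRing R] [Algebra k R] {𝒜 : ℤ → AddSubgroup R} [GradedRing 𝒜]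
  (hk : ∀ c : k, algebraMap k R c ∈ 𝒜 0) (hsurj : ∀ x ∈ 𝒜 0, ∃ c : k, algebraMap k R c = x)
  (hpos : ∀ n : ℤ, n < 0 → 𝒜 n = ⊥) {m : HomogeneousIdeal 𝒜}
  (hm : m.toIdeal = Ideal.span (⋃ n ∈ Set.Ioi (0 : ℤ), (𝒜 n : Set R))) (hloc : GrLC.IsStarLocal 𝒜 m)
  [LocCoh.IsCohenMacaulayRing R] {n : ℕ} (hn : ringKrullDim R = n) (I : GrLC.StarInjRes 𝒜 𝒜)
  {E : Type u} [AddCommGroup E] [Module R E] {𝓔 : ℤ → AddSubgroup E} [Decomposition 𝓔] [SetLike.GradedSMul 𝒜 𝓔]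
  {e : (R ⧸ m.toIdeal) →ₗ[R] E} (he : GrLC.IsStarInjHull 𝒜 (GrLC.quotGr 𝒜 m) 𝓔 e)
  {C : Type u} [AddCommGroup C] [Module R C] {𝒞 : ℤ → AddSubgroup C} [Decomposition 𝒞] [SetLike.GradedSMul 𝒜 𝒞]
  (hC : GrLC.IsStarCanonical 𝒜 𝒞 𝓔 m n I)

theorem isGrHomDeg_symm {M N : Type u} [AddCommGroup M] [Module R M] [AddCommGroup N] [Module R N]
    {ℳ : ℤ → AddSubgroup M} [Decomposition ℳ] {𝒩 : ℤ → AddSubgroup N} [Decomposition 𝒩] {φ : M ≃ₗ[R] N} {d : ℤ}
    (h : GrLC.IsGrHomDeg ℳ 𝒩 φ.toLinearMap d) : GrLC.IsGrHomDeg 𝒩 ℳ φ.symm.toLinearMap (-d) := fun j y hy => by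
  obtain ⟨x, hx, hxy⟩ := H4Gr.exists_preimage_mem h (g := j + -d) (y := y) (by rwa [neg_add_cancel_right])
    ⟨φ.symm y, φ.apply_symm_apply y⟩
  have : φ.symm y = x := by rw [← hxy]; exact φ.symm_apply_apply x
  show φ.symm y ∈ ℳ (j + -d)
  rw [this]; exact hx

include hpos hloc hn in
theorem height_eq : m.toIdeal.height = n := by
  have h := (H4Gr.ringKrullDim_eq_height hpos hloc).symm.trans hn
  exact WithBot.coe_inj.1 h

include hk hsurj hpos hm hloc hn he hC in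
/-- A Cohen–Macaulay ring is Gorenstein iff its canonical module is a shift of itself. -/
theorem isGorensteinRing_iff_exists_shift :
    LocCoh.IsGorensteinRing R ↔ ∃ (a : ℤ) (f : R →ₗ[R] C), Function.Bijective f ∧ GrLC.IsGrHomDeg 𝒜 𝒞 f a := by
  have hht := height_eq hpos hloc hn
  haveI : m.toIdeal.IsPrime := H4Gr.isPrime_of_isStarLocal hloc
  haveI : Nontrivial R := nontrivial_of_ne 1 0 fun h => Ideal.IsPrime.ne_top ‹m.toIdeal.IsPrime›
    ((Ideal.eq_top_iff_one _).2 (h ▸ zero_mem _))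
  letI : Module k E := Module.compHom E (algebraMap k R)
  haveI : IsScalarTower k R E := IsScalarTower.of_algebraMap_smul fun _ _ => rfl
  letI : Module k C := Module.compHom C (algebraMap k R)
  haveI : IsScalarTower k R C := IsScalarTower.of_algebraMap_smul fun _ _ => rfl
  letI : Module k (I.H m n) := Module.compHom (I.H m n) (algebraMap k R)
  haveI : IsScalarTower k R (I.H m n) := IsScalarTower.of_algebraMap_smul fun _ _ => rfl
  letI := (H4Gr.isInternal_Hgr m I n).chooseDecomposition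
  haveI := H4Gr.gradedSMul_Hgr m I n
  obtain ⟨β, hβ⟩ := exists_gdual_hull hk hsurj hpos m hm he.toIsStarEss he.starInj
  obtain ⟨γ, hγ⟩ := gdual_of_canonical hk hsurj hpos m hm n I he hC
  haveI : Module.Finite R C := hC.1
  constructor
  · intro h
    obtain ⟨g, φ, hφ⟩ := S13244.result R 𝒜 m hloc n hht I E 𝓔 e he
    obtain ⟨f, -, hf, -⟩ := exists_dualEquiv (gdual_flip hk hβ (finite_kP hk hsurj 𝒜)) hγ φ hφ (isGrHomDeg_symm hφ)
    exact ⟨g, f.toLinearMap, f.bijective, hf⟩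
  · rintro ⟨a, f, hf, hfa⟩
    let φf := LinearEquiv.ofBijective f hf
    have hfa' : GrLC.IsGrHomDeg 𝒜 𝒞 φf.toLinearMap a := hfa
    obtain ⟨φ, -, hφ, -⟩ := exists_dualEquiv (gdual_flip hk hγ (finite_kP_H hk hsurj hpos m hm I n)) hβ φf hfa'
      (isGrHomDeg_symm hfa')
    refine (isGorensteinRing_iff_starInj_H hloc hht I).2 ⟨H4Gr.shiftMod 𝒜 𝓔 a, φ, ?_, hφ⟩
    exact H4Gr.isStarInj_shiftMod (GrLC.GMod.of 𝒜 E 𝓔) he.starInj a

omit [Algebra k R] in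
theorem ring_hk (h0 : IsField (GrLC.deg0 𝒜)) :
    letI := h0.toField
    (∀ c : GrLC.deg0 𝒜, algebraMap (GrLC.deg0 𝒜) R c ∈ 𝒜 0) ∧
      ∀ x ∈ 𝒜 0, ∃ c : GrLC.deg0 𝒜, algebraMap (GrLC.deg0 𝒜) R c = x :=
  ⟨fun c => c.2, fun x hx => ⟨⟨x, hx⟩, rfl⟩⟩

end Groth.Agent.H4GD
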