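import Groth.Agent.H4GD.Pair
import Groth.Agent.H4KS.Dual
import Groth.Agent.H4Gr.Acyclic

/-!
# Graded duals, injective hulls of the residue field and homomorphisms into them
-/

set_option autoImplicit false
set_option linter.unusedSectionVars false
set_option linter.style.haveILetI false

universe u

open DirectSum

namespace Groth.Agent.H4GD

variable {k : Type u} [Field k] {R : Type u} [CommRing R] [Algebra k R] {𝒜 : ℤ → AddSubgroup R} [GradedRing 𝒜]
  (hk : ∀ c : k, algebraMap k R c ∈ 𝒜 0)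

/-- The homogeneous maps of each degree. -/
def homGr (𝒜 : ℤ → AddSubgroup R) [GradedRing 𝒜] {C : Type u} [AddCommGroup C] [Module R C] (𝒞 : ℤ → AddSubgroup C)
    {E : Type u} [AddCommGroup E] [Module R E] (𝓔 : ℤ → AddSubgroup E) [SetLike.GradedSMul 𝒜 𝓔] (d : ℤ) :
    AddSubgroup (C →ₗ[R] E) :=
  (GrLC.homDeg 𝒜 𝒞 𝓔 d).toAddSubgroup

section Hom

variable {E : Type u} [AddCommGroup E] [Module R E] [Module k E] [IsScalarTower k R E]
  {𝓔 : ℤ → AddSubgroup E} [Decomposition 𝓔] [SetLike.GradedSMul 𝒜 𝓔] {β : E →ₗ[k] R →ₗ[k] k}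
  {C : Type u} [AddCommGroup C] [Module R C] [Module k C] [IsScalarTower k R C]
  {𝒞 : ℤ → AddSubgroup C} [Decomposition 𝒞] [SetLike.GradedSMul 𝒜 𝒞]

variable (β) in
/-- The pairing of maps into a dual of the ring with the source. -/
noncomputable def homPair : (C →ₗ[R] E) →ₗ[k] C →ₗ[k] k where
  toFun f := (β.flip 1) ∘ₗ f.restrictScalars k
  map_add' f g := LinearMap.ext fun x => map_add (β.flip 1) (f x) (g x)
  map_smul' c f := LinearMap.ext fun x => map_smul (β.flip 1) c (f x)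

theorem homPair_apply (f : C →ₗ[R] E) (x : C) : homPair β f x = β (f x) 1 := rfl

variable (hE : GrSeg.IsGDual R 𝒜 𝓔 β)

include hE in
theorem pair_one (y : E) (r : R) : β (r • y) 1 = β y r := by
  rw [hE.map_smul, smul_eq_mul, mul_one]

include hE in
theorem eq_zero_of_pair {n : ℤ} {f : C →ₗ[R] E} (hf : GrLC.IsGrHomDeg 𝒞 𝓔 f n)
    (h : ∀ x ∈ 𝒞 (-n), β (f x) 1 = 0) : f = 0 := by
  refine LinearMap.ext fun x => ?_
  induction x using H4Gr.induction 𝒞 with
  | zero => simp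
  | add a b ha hb => simp only [map_add, ha, hb, LinearMap.zero_apply, add_zero]
  | hom j x hx =>
    refine hE.eq_zero (j + n) _ (hf j x hx) fun r hr => ?_
    rw [← pair_one hE, ← map_smul]
    refine h _ ?_
    have := H4Gr.smul_mem 𝒜 hr hx
    rwa [show -(j + n) + j = -n by omega] at this

include hE hk in
theorem exists_hom (n : ℤ) (l : C →ₗ[k] k) :
    ∃ f : C →ₗ[R] E, GrLC.IsGrHomDeg 𝒞 𝓔 f n ∧ ∀ x ∈ 𝒞 (-n), β (f x) 1 = l x := by
  let lx : C → R →ₗ[k] k := fun x => l ∘ₗ projK hk 𝒞 (-n) ∘ₗ (LinearMap.toSpanSingleton R C x).restrictScalars k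
  have hlx : ∀ x r, lx x r = l (H4Gr.proj 𝒞 (-n) (r • x)) := fun x r => rfl
  have hrep : ∀ x, ∃ y, ∀ r, β y r = lx x r := fun x => by
    obtain ⟨s, -, hs⟩ := H4Gr.exists_sum_proj 𝒞 x
    refine exists_rep hE (lx x) (s.image fun j => -n - j) fun i hi r hr => ?_
    rw [hlx, H4Gr.proj_smul hr, hs (-n - i) (fun h => hi (Finset.mem_image.2 ⟨_, h, sub_sub_cancel _ _⟩)),
      smul_zero, map_zero]
  choose f hf using hrep
  refine ⟨{ toFun := f, map_add' := fun a b => pair_inj hE fun r => by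
              simp only [map_add, LinearMap.add_apply, hf, hlx, smul_add]
            map_smul' := fun t a => pair_inj hE fun r => by
              rw [RingHom.id_apply, hf, hlx, hE.map_smul, hf, hlx, smul_eq_mul, ← mul_smul, mul_comm] },
    fun j x hx => ?_, fun x hx => ?_⟩
  · show f x ∈ 𝓔 (j + n)
    refine (mem_piece_iff hE (j + n)).2 fun m hm r hr => ?_
    rw [hf, hlx, H4Gr.proj_smul hr, H4Gr.proj_ne hx (by omega), smul_zero, map_zero]
  · show β (f x) 1 = l x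
    rw [hf, hlx, one_smul, H4Gr.proj_same hx]

variable [Decomposition (homGr 𝒜 𝒞 𝓔)]

include hE hk in
/-- Homomorphisms into a dual of the ring form a dual. -/
theorem gdual_hom : GrSeg.IsGDual R 𝒞 (homGr 𝒜 𝒞 𝓔) (homPair β) where
  map_smul r f x := by rw [homPair_apply, homPair_apply, LinearMap.smul_apply, f.map_smul]
  vanish n f hf m hm x hx := by
    rw [homPair_apply]
    exact hE.vanish (m + n) _ (hf m x hx) 0 (fun h => hm (by omega)) 1 (SetLike.one_mem_graded 𝒜)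
  eq_zero n f hf h := eq_zero_of_pair hE hf h
  exists_eq n g := by
    obtain ⟨f, hf, hfx⟩ := exists_hom hk (𝒞 := 𝒞) hE n g
    exact ⟨f, hf, fun x hx => hfx x hx⟩

end Hom

section Internal

variable {E : Type u} [AddCommGroup E] [Module R E] {𝓔 : ℤ → AddSubgroup E} [Decomposition 𝓔] [SetLike.GradedSMul 𝒜 𝓔]
  {C : Type u} [AddCommGroup C] [Module R C] {𝒞 : ℤ → AddSubgroup C} [Decomposition 𝒞] [SetLike.GradedSMul 𝒜 𝒞]

theorem isInternal_homGr [Module.Finite R C] : DirectSum.IsInternal (homGr 𝒜 𝒞 𝓔) := by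
  refine H4Gr.isInternal_of _ (fun d => AddMonoidHom.mk' (fun f => H4Gr.homComp 𝒜 f 𝒞 𝓔 d) fun a b => ?_)
    (fun d f => H4Gr.isGrHomDeg_homComp (𝒜 := 𝒜) f d) (fun g f hf d => ?_) fun f => ?_
  · refine LinearMap.ext fun x => ?_
    induction x using H4Gr.induction 𝒞 with
    | zero => simp
    | add u v hu hv => simp only [map_add, hu, hv, LinearMap.add_apply]
    | hom j x hx => simp only [LinearMap.add_apply, H4Gr.homComp_of_mem _ _ hx, map_add]
  · refine LinearMap.ext fun x => ?_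
    induction x using H4Gr.induction 𝒞 with
    | zero => simp
    | add u v hu hv => simp only [map_add, hu, hv]
    | hom j x hx =>
      show H4Gr.homComp 𝒜 f 𝒞 𝓔 d x = _
      rw [H4Gr.homComp_of_mem _ _ hx, H4Gr.proj_of_mem (hf j x hx)]
      split_ifs with h1 h2 h3 <;> first | rfl | omega
  · obtain ⟨s, hs⟩ := H4Gr.exists_sum_homComp 𝒜 𝒞 𝓔 f
    rw [← hs]
    exact sum_mem fun d _ => AddSubgroup.mem_iSup_of_mem d (H4Gr.isGrHomDeg_homComp f d)

theorem gradedSMul_homGr : SetLike.GradedSMul 𝒜 (homGr 𝒜 𝒞 𝓔) :=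
  ⟨fun {i j r f} hr hf g x hx => by
    have h := H4Gr.smul_mem 𝒜 hr (hf g x hx)
    show r • f x ∈ 𝓔 (g + (i +ᵥ j))
    rwa [vadd_eq_add, show g + (i + j) = i + (g + j) by omega]⟩

end Internal

section Hull

variable (hsurj : ∀ x ∈ 𝒜 0, ∃ c : k, algebraMap k R c = x) (hpos : ∀ n : ℤ, n < 0 → 𝒜 n = ⊥)
  (m : HomogeneousIdeal 𝒜) (hm : m.toIdeal = Ideal.span (⋃ n ∈ Set.Ioi (0 : ℤ), (𝒜 n : Set R)))
  {E : Type u} [AddCommGroup E] [Module R E] [Module k E] [IsScalarTower k R E]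
  {𝓔 : ℤ → AddSubgroup E} [Decomposition 𝓔] [SetLike.GradedSMul 𝒜 𝓔]

include hpos hm in
theorem one_notMem [Nontrivial R] : (1 : R) ∉ m.toIdeal := by
  intro h
  have key : ∀ x ∈ m.toIdeal, H4Gr.proj 𝒜 0 x = 0 := by
    intro x hx
    rw [hm] at hx
    induction hx using Submodule.span_induction with
    | mem x hx =>
      obtain ⟨n, hn, hxn⟩ := Set.mem_iUnion₂.1 hx
      exact H4Gr.proj_ne hxn (ne_of_gt (Set.mem_Ioi.1 hn))
    | zero => exact map_zero _
    | add a b _ _ ha hb => rw [map_add, ha, hb, add_zero]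
    | smul t a _ ha =>
      induction t using H4Gr.induction 𝒜 with
      | zero => simp
      | add u v hu hv => rw [add_smul, map_add, hu, hv, add_zero]
      | hom i t ht =>
        rcases lt_trichotomy i 0 with hi | rfl | hi
        · rw [hpos i hi, AddSubgroup.mem_bot] at ht; simp [ht]
        · rw [H4Gr.proj_smul ht, sub_zero, ha, smul_zero]
        · have h0 : H4Gr.proj 𝒜 (0 - i) a = 0 :=
            AddSubgroup.mem_bot.1 (hpos (0 - i) (by omega) ▸ H4Gr.proj_mem 𝒜 _ a)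
          rw [H4Gr.proj_smul ht, h0, smul_zero]
  have h1 := key 1 h
  rw [H4Gr.proj_same (SetLike.one_mem_graded 𝒜)] at h1
  exact one_ne_zero h1

include hk hsurj in
theorem isField_deg0 [Nontrivial R] : IsField (GrLC.deg0 𝒜) := by
  let f : k →+* GrLC.deg0 𝒜 := (algebraMap k R).codRestrict _ hk
  refine MulEquiv.isField (Field.toIsField k) (RingEquiv.ofBijective f ⟨f.injective, fun x => ?_⟩).symm.toMulEquiv
  obtain ⟨c, hc⟩ := hsurj x x.2
  exact ⟨c, Subtype.ext hc⟩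

include hk hsurj hpos hm in
/-- A graded injective hull of the residue field is a graded dual of the ring. -/
theorem exists_gdual_hull [Nontrivial R] {e : (R ⧸ m.toIdeal) →ₗ[R] E}
    (he : GrLC.IsStarEss (GrLC.quotGr 𝒜 m) 𝓔 e) (hE : GrLC.IsStarInj 𝒜 𝓔) :
    ∃ β : E →ₗ[k] R →ₗ[k] k, GrSeg.IsGDual R 𝒜 𝓔 β := by
  have h0 := isField_deg0 hk hsurj
  have he0 : e 1 ∈ 𝓔 0 := H4KS.e_one_mem m he
  have hne : e 1 ≠ 0 := fun h => one_notMem hpos m hm (Ideal.Quotient.eq_zero_iff_mem.1 (he.injective (h.trans (map_zero e).symm)))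
  let ι : k →ₗ[k] kP hk 𝓔 0 := LinearMap.toSpanSingleton k (kP hk 𝓔 0) ⟨e 1, he0⟩
  have hι : Function.Bijective ι := by
    refine ⟨(injective_iff_map_eq_zero ι).2 fun c hc => ?_, fun y => ?_⟩
    · exact (smul_eq_zero.1 (congrArg Subtype.val hc : c • e 1 = 0)).resolve_right hne
    · rcases eq_or_ne (y : E) 0 with hy | hy
      · exact ⟨0, Subtype.ext (by rw [map_zero, hy]; rfl)⟩
      obtain ⟨r, hr, c, hc, hrc, hr0⟩ := H4KS.exists_socle hpos m hm he (y.2 : (y : E) ∈ 𝓔 0) hy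
      rw [neg_zero] at hr
      obtain ⟨a, rfl⟩ := hsurj r hr
      obtain ⟨b, rfl⟩ := hsurj c hc
      rw [algebraMap_smul] at hrc hr0
      rw [algebraMap_smul] at hrc
      have ha : a ≠ 0 := fun h => hr0 (by rw [h, zero_smul])
      refine ⟨a⁻¹ * b, Subtype.ext ?_⟩
      show (a⁻¹ * b) • e 1 = (y : E)
      rw [mul_smul, ← hrc, smul_smul, inv_mul_cancel₀ ha, one_smul]
  let τ : E →ₗ[k] k := (LinearEquiv.ofBijective ι hι).symm.toLinearMap ∘ₗ
    LinearMap.codRestrict (kP hk 𝓔 0) (projK hk 𝓔 0) (H4Gr.proj_mem 𝓔 0)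
  let β : E →ₗ[k] R →ₗ[k] k :=
    { toFun := fun y => τ ∘ₗ (LinearMap.toSpanSingleton R E y).restrictScalars k
      map_add' := fun a b => LinearMap.ext fun r => by simp [smul_add]
      map_smul' := fun c a => LinearMap.ext fun r => by simp [smul_comm r c] }
  have hβ : ∀ y r, β y r = τ (r • y) := fun y r => rfl
  have hτ : ∀ y ∈ 𝓔 0, τ y = 0 → y = 0 := fun y hy h => by
    have h1 : LinearMap.codRestrict (kP hk 𝓔 0) (projK hk 𝓔 0) (H4Gr.proj_mem 𝓔 0) y = 0 :=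
      (LinearEquiv.ofBijective ι hι).symm.map_eq_zero_iff.1 h
    rw [← H4Gr.proj_same hy]
    exact congrArg Subtype.val h1
  refine ⟨β, fun r y x => ?_, fun n y hy i hi x hx => ?_, fun n y hy h => ?_, fun n g => ?_⟩
  · rw [hβ, hβ, smul_eq_mul, ← mul_smul, mul_comm]
  · rw [hβ]
    show (LinearEquiv.ofBijective ι hι).symm _ = 0
    rw [show LinearMap.codRestrict (kP hk 𝓔 0) (projK hk 𝓔 0) (H4Gr.proj_mem 𝓔 0) (x • y) = 0 from
      Subtype.ext (H4Gr.proj_ne (H4Gr.smul_mem 𝒜 hx hy) (by omega)), map_zero]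
  · by_contra hy0
    obtain ⟨r, hr, c, hc, hrc, hr0⟩ := H4KS.exists_socle hpos m hm he hy hy0
    have h1 := H4Gr.smul_mem 𝒜 hr hy
    rw [neg_add_cancel] at h1
    exact hr0 (hτ _ h1 (h r hr))
  · let l : GrLC.comp 𝒜 𝒜 (-n) →ₗ[GrLC.deg0 𝒜] GrLC.comp 𝒜 𝓔 0 :=
      { toFun := fun x => ⟨g (x : R) • e 1, smul_mem_piece hk 𝓔 _ he0⟩
        map_add' := fun x y => Subtype.ext (by
          show g ((x : R) + y) • e 1 = g (x : R) • e 1 + g (y : R) • e 1
          rw [map_add, add_smul])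
        map_smul' := fun t x => Subtype.ext (by
          obtain ⟨c, hc⟩ := hsurj t t.2
          show g ((t : R) * (x : R)) • e 1 = (t : R) • g (x : R) • e 1
          rw [← hc, ← Algebra.smul_def, map_smul, algebraMap_smul, smul_eq_mul, mul_smul]) }
    obtain ⟨f, hf⟩ := (H4KS.resHom_bijective hpos m hm he hE (𝒞 := 𝒜) n).2 l
    have hfn : GrLC.IsGrHomDeg 𝒜 𝓔 (f : R →ₗ[R] E) n := f.2
    refine ⟨(f : R →ₗ[R] E) 1, by simpa using hfn 0 1 (SetLike.one_mem_graded 𝒜), fun x hx => ?_⟩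
    rw [hβ, ← map_smul, smul_eq_mul, mul_one]
    have h1 : (f : R →ₗ[R] E) x = g x • e 1 := congrArg Subtype.val (LinearMap.congr_fun hf ⟨x, hx⟩)
    show τ _ = _
    rw [h1, map_smul]
    have h2 : τ (e 1) = 1 := by
      show (LinearEquiv.ofBijective ι hι).symm _ = 1
      rw [LinearEquiv.symm_apply_eq]
      exact Subtype.ext ((H4Gr.proj_same he0).trans (one_smul k (e 1)).symm)
    rw [h2, smul_eq_mul, mul_one]

variable {β : E →ₗ[k] R →ₗ[k] k}

include hk in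
/-- A graded dual of the ring is *injective. -/
theorem isStarInj_gdual (hE : GrSeg.IsGDual R 𝒜 𝓔 β) : GrLC.IsStarInj 𝒜 𝓔 := by
  intro A B a ha hai g hg
  letI : Module k A.carrier := Module.compHom A.carrier (algebraMap k R)
  letI : IsScalarTower k R A.carrier := IsScalarTower.of_algebraMap_smul fun _ _ => rfl
  letI : Module k B.carrier := Module.compHom B.carrier (algebraMap k R)
  letI : IsScalarTower k R B.carrier := IsScalarTower.of_algebraMap_smul fun _ _ => rfl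
  let aK : A.carrier →ₗ[k] B.carrier :=
    { toFun := a, map_add' := map_add a, map_smul' := fun c x => a.map_smul (algebraMap k R c) x }
  obtain ⟨p, hp⟩ := LinearMap.exists_leftInverse_of_injective aK (LinearMap.ker_eq_bot.2 hai)
  obtain ⟨h, hh, hhx⟩ := exists_hom hk (𝒞 := B.gr) hE 0 ((β.flip 1) ∘ₗ
    ({ toFun := g, map_add' := map_add g, map_smul' := fun c x => (g.map_smul (algebraMap k R c) x).trans (algebraMap_smul R c (g x)) } : A.carrier →ₗ[k] E) ∘ₗ p)
  refine ⟨h, H4Gr.isGrHomDeg_zero_iff.1 hh, sub_eq_zero.1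
    (eq_zero_of_pair hE (𝒞 := A.gr) (n := 0) (fun j x hx => ?_) fun x hx => ?_)⟩
  · rw [LinearMap.sub_apply, add_zero]
    exact sub_mem (by simpa using hh j _ (ha j x hx)) (hg j x hx)
  · rw [neg_zero] at hx
    rw [LinearMap.sub_apply, LinearMap.comp_apply, map_sub, LinearMap.sub_apply,
      hhx (a x) (by rw [neg_zero]; exact ha 0 x hx)]
    show β (g (p (aK x))) 1 - β (g x) 1 = 0
    rw [show p (aK x) = x from LinearMap.congr_fun hp x, sub_self]

include hk hsurj hpos hm in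
/-- An embedding of the residue field into a graded dual of the ring is an injective hull. -/
theorem isStarInjHull_gdual [Nontrivial R] (hE : GrSeg.IsGDual R 𝒜 𝓔 β) {e : (R ⧸ m.toIdeal) →ₗ[R] E}
    (hei : Function.Injective e) (heg : GrLC.IsGrHom (GrLC.quotGr 𝒜 m) 𝓔 e) :
    GrLC.IsStarInjHull 𝒜 (GrLC.quotGr 𝒜 m) 𝓔 e := by
  have he0 : e 1 ∈ 𝓔 0 := heg 0 1 ⟨1, SetLike.one_mem_graded 𝒜, map_one (Ideal.Quotient.mk m.toIdeal)⟩
  have hne : e 1 ≠ 0 := fun h => one_notMem hpos m hm (Ideal.Quotient.eq_zero_iff_mem.1 (hei (h.trans (map_zero e).symm)))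
  have hu : β (e 1) 1 ≠ 0 := fun h => hne (hE.eq_zero 0 _ he0 fun x hx => by
    rw [neg_zero] at hx
    obtain ⟨c, rfl⟩ := hsurj x hx
    rw [Algebra.algebraMap_eq_smul_one, map_smul, h, smul_zero])
  have hspan : ∀ y ∈ 𝓔 0, ∃ c : k, y = c • e 1 := fun y hy => ⟨β y 1 / β (e 1) 1, sub_eq_zero.1
    (hE.eq_zero 0 _ (sub_mem hy (smul_mem_piece hk 𝓔 _ he0)) fun x hx => by
      rw [neg_zero] at hx
      obtain ⟨c, rfl⟩ := hsurj x hx
      rw [Algebra.algebraMap_eq_smul_one, map_smul, map_sub, LinearMap.sub_apply, map_smul, LinearMap.smul_apply]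
      simp only [smul_eq_mul]
      rw [div_mul_cancel₀ _ hu, sub_self, mul_zero])⟩
  refine ⟨⟨hei, heg, fun P hP hP0 => ?_⟩, isStarInj_gdual hk hE⟩
  obtain ⟨y, hy, hy0⟩ := (Submodule.ne_bot_iff _).1 hP0
  obtain ⟨j, hj⟩ : ∃ j, H4Gr.proj 𝓔 j y ≠ 0 := by
    by_contra h
    push Not at h
    exact hy0 (H4Gr.ext_proj 𝓔 fun j => by rw [h j, map_zero])
  obtain ⟨r, hr, hrv⟩ : ∃ r ∈ 𝒜 (-j), β (H4Gr.proj 𝓔 j y) r ≠ 0 := by
    by_contra h
    push Not at h
    exact hj (hE.eq_zero j _ (H4Gr.proj_mem _ _ _) h)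
  have hmem : r • H4Gr.proj 𝓔 j y ∈ 𝓔 0 := by simpa using H4Gr.smul_mem 𝒜 hr (H4Gr.proj_mem 𝓔 j y)
  refine (Submodule.ne_bot_iff _).2 ⟨r • H4Gr.proj 𝓔 j y, ⟨P.smul_mem r (hP j hy), ?_⟩, fun h => hrv ?_⟩
  · obtain ⟨c, hc⟩ := hspan _ hmem
    exact ⟨algebraMap k R c • 1, by rw [map_smul, algebraMap_smul, hc]⟩
  · rw [← pair_one hE, h, map_zero, LinearMap.zero_apply]

end Hull

end Groth.Agent.H4GD
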