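import Groth.Agent.H4Gr.StarGorenstein
import Groth.Agent.H4GD.StarGor
import Groth.Agent.H4Matlis.Socle
import Groth.Agent.H4Inj.Essential
import Mathlib.Algebra.Module.FinitePresentation

/-!
# Localisation of *canonical modules
-/

set_option autoImplicit false
set_option linter.unusedSectionVars false
set_option linter.style.haveILetI false

universe u

open DirectSum IsLocalRing CategoryTheory

namespace Groth.Agent.H4GD

variable {ι : Type} [AddCommGroup ι] [DecidableEq ι] [Module.Free ℤ ι] [Module.Finite ℤ ι]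
variable {R : Type u} [CommRing R] [IsNoetherianRing R] {𝒜 : ι → AddSubgroup R} [GradedRing 𝒜]
  {m : HomogeneousIdeal 𝒜} [m.toIdeal.IsPrime]
  {E : Type u} [AddCommGroup E] [Module R E] {𝓔 : ι → AddSubgroup E} [Decomposition 𝓔] [SetLike.GradedSMul 𝒜 𝓔]
  {e : (R ⧸ m.toIdeal) →ₗ[R] E}

/-- The localisation of the *injective envelope of `R ⧸ m` is the injective envelope of the residue field. -/
theorem exists_hull_localized_star (he : GrLC.IsStarInjHull 𝒜 (GrLC.quotGr 𝒜 m) 𝓔 e) :
    ∃ g : ResidueField (Localization.AtPrime m.toIdeal) →ₗ[Localization.AtPrime m.toIdeal]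
      LocalizedModule m.toIdeal.primeCompl E, InjHull.IsInjectiveHull g := by
  classical
  let S := m.toIdeal.primeCompl
  let A := Localization.AtPrime m.toIdeal
  have hess := H4Gr.isStarEss_qPieces_zero he.toIsStarEss
  have htop : GrLC.gam m.toIdeal E = ⊤ := H4Gr.gam_eq_top hess
  have hinj := injective_localized (m := m) he.starInj htop
  have hkey : ∀ y : E, (∀ a ∈ m.toIdeal, a • y = 0) → ∃ (r s : R), r ∉ m.toIdeal ∧ r • y = s • e 1 := by
    intro y hy
    by_cases hy0 : y = 0
    · exact ⟨1, 0, fun h => Ideal.IsPrime.ne_top ‹_› ((Ideal.eq_top_iff_one _).2 h), by rw [hy0, zero_smul, smul_zero]⟩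
    obtain ⟨r, s, hrs, hr0⟩ := H4Gr.exists_smul_eq_smul_one hess hy0
    exact ⟨r, s, fun h => hr0 (hy r h), hrs⟩
  have htors : LocCoh.IsPowerTorsion (maximalIdeal A) (LocalizedModule S E) := by
    intro z
    induction z using LocalizedModule.induction_on with
    | _ x t =>
      obtain ⟨N, hN⟩ := (htop ▸ Submodule.mem_top : x ∈ GrLC.gam m.toIdeal E)
      refine ⟨N, fun r hr => ?_⟩
      rw [← Localization.AtPrime.map_eq_maximalIdeal, ← Ideal.map_pow] at hr
      induction hr using Submodule.span_induction with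
      | mem r hr =>
        obtain ⟨a, ha, rfl⟩ := hr
        rw [algebraMap_smul, LocalizedModule.smul'_mk, hN a ha, LocalizedModule.zero_mk]
      | zero => exact zero_smul _ _
      | add a b _ _ ha hb => rw [add_smul, ha, hb, add_zero]
      | smul t a _ ha => rw [smul_eq_mul, mul_smul, ha, smul_zero]
  let x₁ : LocalizedModule S E := LocalizedModule.mk (e 1) 1
  have hx₁ : x₁ ∈ LocCoh.torsionBy (maximalIdeal A) (LocalizedModule S E) := by
    suffices h : ∀ z ∈ maximalIdeal A, z • x₁ = 0 from (Submodule.mem_torsionBySet_iff _ _).2 fun a => h a.1 a.2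
    intro a ha
    rw [← Localization.AtPrime.map_eq_maximalIdeal] at ha
    induction ha using Submodule.span_induction with
    | mem r hr =>
      obtain ⟨b, hb, rfl⟩ := hr
      show algebraMap R A b • x₁ = 0
      rw [algebraMap_smul, LocalizedModule.smul'_mk, (H4Gr.smul_one_eq_zero_iff he.injective).2 hb, LocalizedModule.zero_mk]
    | zero => exact zero_smul _ _
    | add a b _ _ ha hb => show (a + b) • x₁ = 0; rw [add_smul, ha, hb, add_zero]
    | smul t a _ ha => show (t * a) • x₁ = 0; rw [mul_smul, ha, smul_zero]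
  have hx₀ : x₁ ≠ 0 := by
    intro h
    obtain ⟨c, hc⟩ := LocalizedModule.mk_eq.1 (h.trans (LocalizedModule.zero_mk (1 : S)).symm)
    simp only [one_smul, smul_zero] at hc
    exact c.2 ((H4Gr.smul_one_eq_zero_iff he.injective).1 hc)
  obtain ⟨g, hg⟩ := H4Matlis.exists_hull_of_socle_cyclic (m := maximalIdeal A) hinj htors hx₁ hx₀ fun z hz => by
    induction z using LocalizedModule.induction_on with
    | _ x t =>
      obtain ⟨T, hT⟩ := IsNoetherian.noetherian m.toIdeal
      have hk : ∀ a ∈ m.toIdeal, ∃ c : S, c • (a • x) = 0 := fun a ha => by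
        have h := (Submodule.mem_torsionBySet_iff _ _).1 hz ⟨algebraMap R A a, by
          rw [← Localization.AtPrime.map_eq_maximalIdeal]; exact Ideal.mem_map_of_mem _ ha⟩
        have h' : LocalizedModule.mk (a • x) t = (0 : LocalizedModule S E) := by
          rw [← LocalizedModule.smul'_mk, ← algebraMap_smul A a]; exact h
        obtain ⟨c, hc⟩ := LocalizedModule.mk_eq.1 (h'.trans (LocalizedModule.zero_mk (1 : S)).symm)
        exact ⟨c, by simpa using hc⟩
      choose c hc using hk
      let u : S := ∏ a ∈ T.attach, c a.1 (hT ▸ Submodule.subset_span a.2)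
      obtain ⟨r, s, hr, hrs⟩ := hkey ((u : R) • x) fun a ha => by
        rw [← hT] at ha
        induction ha using Submodule.span_induction with
        | mem a ha =>
          obtain ⟨v, hv⟩ := Finset.dvd_prod_of_mem (fun a : T => c a.1 (hT ▸ Submodule.subset_span a.2)) (Finset.mem_attach T ⟨a, ha⟩)
          have huv : u = v * c a (hT ▸ Submodule.subset_span ha) := hv.trans (mul_comm _ _)
          rw [smul_comm, ← Submonoid.smul_def, huv, mul_smul, hc, smul_zero]
        | zero => exact zero_smul _ _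
        | add a b _ _ ha hb => rw [add_smul, ha, hb, add_zero]
        | smul t a _ ha => rw [smul_eq_mul, mul_smul, ha, smul_zero]
      refine ⟨Localization.mk s (⟨r, hr⟩ * u * t), ?_⟩
      rw [LocalizedModule.mk_smul_mk, LocalizedModule.mk_eq]
      refine ⟨1, ?_⟩
      simp only [one_smul, mul_one, Submonoid.smul_def, Submonoid.coe_mul, ← mul_smul, ← hrs]
      congr 1
      ring
  exact ⟨g, hg⟩

variable {C : Type u} [AddCommGroup C] [Module R C] {𝒞 : ι → AddSubgroup C} [Decomposition 𝒞] [SetLike.GradedSMul 𝒜 𝒞]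

/-- A *canonical module localises to a canonical module at the *maximal ideal. -/
theorem nonempty_localized_canonical (he : GrLC.IsStarInjHull 𝒜 (GrLC.quotGr 𝒜 m) 𝓔 e) {n : ℕ}
    (I : GrLC.StarInjRes 𝒜 𝒜) (hC : GrLC.IsStarCanonical 𝒜 𝒞 𝓔 m n I) {E₀ : Type u} [AddCommGroup E₀]
    [Module (Localization.AtPrime m.toIdeal) E₀]
    {f : ResidueField (Localization.AtPrime m.toIdeal) →ₗ[Localization.AtPrime m.toIdeal] E₀}
    (hf : InjHull.IsInjectiveHull f) :
    Nonempty ((LocalizedModule m.toIdeal.primeCompl C →ₗ[Localization.AtPrime m.toIdeal] E₀)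
      ≃ₗ[Localization.AtPrime m.toIdeal] LocCoh.H (maximalIdeal (Localization.AtPrime m.toIdeal)) n
        (Localization.AtPrime m.toIdeal)) := by
  obtain ⟨hfin, φ, -⟩ := hC
  let S := m.toIdeal.primeCompl
  let A := Localization.AtPrime m.toIdeal
  haveI : Module.FinitePresentation R C := Module.finitePresentation_of_finite R C
  obtain ⟨g, hg⟩ := exists_hull_localized_star he
  obtain ⟨u, -⟩ := H4Inj.hull_unique hf hg
  obtain ⟨eH⟩ := H4Gr.nonempty_H_equiv m I n
  obtain ⟨eL⟩ := H4LC.nonempty_localization_H m.toIdeal R S n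
  obtain ⟨e₀⟩ := H4Depth.exists_localizedModule_self_equiv m.toIdeal
  let e₁ := ((localCohomology (m.toIdeal.map (algebraMap R A)) n).mapIso e₀.toModuleIso).toLinearEquiv
  let eloc : LocalizedModule S (C →ₗ[R] E) ≃ₗ[A] LocalizedModule S (LocCoh.H m.toIdeal n R) :=
    IsLocalizedModule.mapEquiv S (LocalizedModule.mkLinearMap S _) (LocalizedModule.mkLinearMap S _)
      A (φ.trans eH)
  let eHom : LocalizedModule S (C →ₗ[R] E) ≃ₗ[A] (LocalizedModule S C →ₗ[A] LocalizedModule S E) :=
    (Module.FinitePresentation.linearEquivMapExtendScalars S).extendScalarsOfIsLocalization S A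
  let e2 := (((LinearEquiv.congrRight u).trans eHom.symm).trans eloc).trans (eL.trans e₁)
  have key : ∀ J : Ideal A, J = maximalIdeal A →
      ∀ e' : (LocalizedModule S C →ₗ[A] E₀) ≃ₗ[A] LocCoh.H J n A,
        Nonempty ((LocalizedModule S C →ₗ[A] E₀) ≃ₗ[A] LocCoh.H (maximalIdeal A) n A) := by
    intro J hJ e'; subst hJ; exact ⟨e'⟩
  exact key _ Localization.AtPrime.map_eq_maximalIdeal e2

end Groth.Agent.H4GD
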