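import Groth.Prelude.Def_GrSeg
import Groth.Agent.H4Gr.Basic
import Mathlib.LinearAlgebra.Dual.Lemmas

/-!
# Graded duals over a field
-/

set_option autoImplicit false
set_option linter.unusedSectionVars false

universe u

open DirectSum

namespace Groth.Agent.H4GD

variable {k : Type u} [Field k] {R : Type u} [CommRing R] [Algebra k R] {𝒜 : ℤ → AddSubgroup R} [GradedRing 𝒜]
  (hk : ∀ c : k, algebraMap k R c ∈ 𝒜 0)

section One

variable {M : Type u} [AddCommGroup M] [Module R M] [Module k M] [IsScalarTower k R M]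
  (ℳ : ℤ → AddSubgroup M) [Decomposition ℳ] [SetLike.GradedSMul 𝒜 ℳ]

include hk in
theorem smul_mem_piece (c : k) {g : ℤ} {x : M} (hx : x ∈ ℳ g) : c • x ∈ ℳ g := by
  rw [← algebraMap_smul R c x]
  simpa using H4Gr.smul_mem 𝒜 (hk c) hx

/-- A piece as a vector space. -/
def kP (g : ℤ) : Submodule k M where
  carrier := ℳ g
  add_mem' := add_mem
  zero_mem' := zero_mem _
  smul_mem' c _ hx := smul_mem_piece hk ℳ c hx

theorem mem_kP {g : ℤ} {x : M} : x ∈ kP hk ℳ g ↔ x ∈ ℳ g := Iff.rfl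

/-- The component as a linear map. -/
def projK (g : ℤ) : M →ₗ[k] M where
  toFun := H4Gr.proj ℳ g
  map_add' := map_add _
  map_smul' c x := by
    have h := H4Gr.proj_smul (ℳ := ℳ) (hk c) g x
    rw [sub_zero, algebraMap_smul, algebraMap_smul] at h
    exact h

theorem projK_apply (g : ℤ) (x : M) : projK hk ℳ g x = H4Gr.proj ℳ g x := rfl

variable {D : Type u} [AddCommGroup D] [Module R D] [Module k D] [IsScalarTower k R D]
  {𝒟 : ℤ → AddSubgroup D} [Decomposition 𝒟] [SetLike.GradedSMul 𝒜 𝒟] {β : D →ₗ[k] M →ₗ[k] k}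
  {ℳ} (hD : GrSeg.IsGDual R ℳ 𝒟 β)

include hD

theorem pair_proj_left {n : ℤ} {x : M} (hx : x ∈ ℳ (-n)) (d : D) : β d x = β (H4Gr.proj 𝒟 n d) x := by
  induction d using H4Gr.induction 𝒟 with
  | zero => simp
  | add a b ha hb => simp only [map_add, LinearMap.add_apply, ha, hb]
  | hom j d hd =>
    by_cases e : j = n
    · subst e; rw [H4Gr.proj_same hd]
    · rw [H4Gr.proj_ne hd e, map_zero, LinearMap.zero_apply]
      exact hD.vanish j d hd (-n) (fun h => e (neg_injective h).symm) x hx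

theorem pair_proj_right {n : ℤ} {d : D} (hd : d ∈ 𝒟 n) (x : M) : β d x = β d (H4Gr.proj ℳ (-n) x) := by
  induction x using H4Gr.induction ℳ with
  | zero => simp
  | add a b ha hb => simp only [map_add, ha, hb]
  | hom j x hx =>
    by_cases e : j = -n
    · subst e; rw [H4Gr.proj_same hx]
    · rw [H4Gr.proj_ne hx e, map_zero, hD.vanish n d hd j e x hx]

theorem pair_eq_zero {d : D} (h : ∀ x, β d x = 0) : d = 0 :=
  H4Gr.ext_proj 𝒟 fun n => by
    rw [map_zero]
    exact hD.eq_zero n _ (H4Gr.proj_mem 𝒟 n d) fun x hx => by rw [← pair_proj_left hD hx, h]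

theorem pair_inj {d d' : D} (h : ∀ x, β d x = β d' x) : d = d' :=
  sub_eq_zero.1 (pair_eq_zero hD fun x => by rw [map_sub, LinearMap.sub_apply, h, sub_self])

theorem mem_piece_iff {d : D} (n : ℤ) : d ∈ 𝒟 n ↔ ∀ m, m ≠ -n → ∀ x ∈ ℳ m, β d x = 0 := by
  refine ⟨fun h => hD.vanish n d h, fun h => ?_⟩
  have he : d = H4Gr.proj 𝒟 n d := pair_inj hD fun x => by
    induction x using H4Gr.induction ℳ with
    | zero => simp
    | add a b ha hb => simp only [map_add, ha, hb]
    | hom j x hx =>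
      by_cases e : j = -n
      · subst e; exact pair_proj_left hD hx d
      · rw [h j e x hx, hD.vanish n _ (H4Gr.proj_mem 𝒟 n d) j e x hx]
  rw [he]; exact H4Gr.proj_mem 𝒟 n d

theorem support_finite (d : D) : ∃ s : Finset ℤ, ∀ n ∉ s, ∀ x ∈ ℳ n, β d x = 0 := by
  obtain ⟨s, -, hs⟩ := H4Gr.exists_sum_proj 𝒟 d
  refine ⟨s.image (- ·), fun n hn x hx => ?_⟩
  rw [pair_proj_left hD (n := -n) (by rwa [neg_neg]), hs (-n), map_zero, LinearMap.zero_apply]
  exact fun h => hn (Finset.mem_image.2 ⟨-n, h, neg_neg n⟩)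

theorem exists_rep (l : M →ₗ[k] k) (s : Finset ℤ) (hs : ∀ n ∉ s, ∀ x ∈ ℳ n, l x = 0) :
    ∃ d, ∀ x, β d x = l x := by
  choose d hd hd' using fun n => hD.exists_eq (-n) l
  refine ⟨∑ n ∈ s, d n, fun x => ?_⟩
  rw [map_sum, LinearMap.sum_apply]
  induction x using H4Gr.induction ℳ with
  | zero => simp
  | add a b ha hb => simp only [map_add, Finset.sum_add_distrib, ha, hb]
  | hom j x hx =>
    by_cases hj : j ∈ s
    · rw [Finset.sum_eq_single j (fun n _ hn => hD.vanish (-n) _ (hd n) j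
        (by rw [neg_neg]; exact Ne.symm hn) x hx) (fun h => absurd hj h)]
      exact hd' j x (by rwa [neg_neg])
    · rw [hs j hj x hx]
      exact Finset.sum_eq_zero fun n hn => hD.vanish (-n) _ (hd n) j
        (by rw [neg_neg]; rintro rfl; exact hj hn) x hx

include hk in
/-- A module with finite dimensional pieces is the graded dual of its graded dual. -/
theorem gdual_flip (hfin : ∀ n, FiniteDimensional k (kP hk ℳ n)) : GrSeg.IsGDual R 𝒟 ℳ β.flip where
  map_smul r x d := (hD.map_smul r d x).symm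
  vanish n x hx m hm d hd := hD.vanish m d hd n (fun h => hm (by rw [h, neg_neg])) x hx
  eq_zero n x hx h := by
    by_contra hx0
    obtain ⟨f, hf⟩ := Module.Projective.exists_dual_ne_zero k hx0
    obtain ⟨d, hd, hdx⟩ := hD.exists_eq (-n) f
    exact hf ((hdx x (by rwa [neg_neg])).symm.trans (h d hd))
  exists_eq n l := by
    haveI := hfin n
    let Θ : kP hk 𝒟 (-n) →ₗ[k] Module.Dual k (kP hk ℳ n) :=
      (LinearMap.lcomp k k (kP hk ℳ n).subtype) ∘ₗ β ∘ₗ (kP hk 𝒟 (-n)).subtype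
    have hΘ : Function.Bijective Θ := by
      refine ⟨(injective_iff_map_eq_zero Θ).2 fun d hd => Subtype.ext (hD.eq_zero (-n) _ d.2 fun x hx => ?_),
        fun f => ?_⟩
      · exact LinearMap.congr_fun hd ⟨x, by rwa [neg_neg] at hx⟩
      · obtain ⟨g, hg⟩ := LinearMap.exists_extend f
        obtain ⟨d, hd, hdx⟩ := hD.exists_eq (-n) g
        refine ⟨⟨d, hd⟩, LinearMap.ext fun x => ?_⟩
        exact (hdx x (by rw [neg_neg]; exact x.2)).trans (LinearMap.congr_fun hg x)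
    let e := LinearEquiv.ofBijective Θ hΘ
    obtain ⟨x, hx⟩ := (Module.evalEquiv k (kP hk ℳ n)).surjective
      ((l ∘ₗ (kP hk 𝒟 (-n)).subtype) ∘ₗ e.symm.toLinearMap)
    refine ⟨x, x.2, fun d hd => ?_⟩
    have h := LinearMap.congr_fun hx (e ⟨d, hd⟩)
    simp only [LinearMap.comp_apply, LinearEquiv.coe_coe, LinearEquiv.symm_apply_apply] at h
    exact h

end One

section Two

variable {M : Type u} [AddCommGroup M] [Module R M] [Module k M] [IsScalarTower k R M]
  {ℳ : ℤ → AddSubgroup M} [Decomposition ℳ] [SetLike.GradedSMul 𝒜 ℳ]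
  {D : Type u} [AddCommGroup D] [Module R D] [Module k D] [IsScalarTower k R D]
  {𝒟 : ℤ → AddSubgroup D} [Decomposition 𝒟] [SetLike.GradedSMul 𝒜 𝒟] {β : D →ₗ[k] M →ₗ[k] k}
  {F : Type u} [AddCommGroup F] [Module R F] [Module k F] [IsScalarTower k R F]
  {ℱ : ℤ → AddSubgroup F} [Decomposition ℱ] [SetLike.GradedSMul 𝒜 ℱ]
  {E : Type u} [AddCommGroup E] [Module R E] [Module k E] [IsScalarTower k R E]
  {ℰ : ℤ → AddSubgroup E} [Decomposition ℰ] [SetLike.GradedSMul 𝒜 ℰ] {γ : E →ₗ[k] F →ₗ[k] k}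
  (hD : GrSeg.IsGDual R ℳ 𝒟 β) (hE : GrSeg.IsGDual R ℱ ℰ γ)

include hD hE

/-- The dual of a homogeneous map. -/
theorem exists_dualMap (f : F →ₗ[R] M) {e : ℤ} (hf : GrLC.IsGrHomDeg ℱ ℳ f e) :
    ∃ g : D →ₗ[R] E, GrSeg.IsGDualMap β γ f g ∧ GrLC.IsGrHomDeg 𝒟 ℰ g e := by
  have hrep : ∀ d, ∃ y, ∀ x, γ y x = β d (f x) := fun d => by
    obtain ⟨s, hs⟩ := support_finite hD d
    refine exists_rep hE (β d ∘ₗ f.restrictScalars k) (s.image (· - e)) fun n hn x hx => hs _ (fun h => hn ?_) _ (hf n x hx)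
    exact Finset.mem_image.2 ⟨n + e, h, add_sub_cancel_right n e⟩
  choose g hg using hrep
  refine ⟨{ toFun := g, map_add' := fun a b => pair_inj hE fun x => by
              simp only [map_add, LinearMap.add_apply, hg]
            map_smul' := fun r a => pair_inj hE fun x => by
              rw [RingHom.id_apply, hg, hD.map_smul, hE.map_smul, hg, f.map_smul] }, fun d x => hg d x, ?_⟩
  intro n d hd
  refine (mem_piece_iff hE (n + e)).2 fun m hm x hx => ?_
  show γ (g d) x = 0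
  rw [hg d x]
  exact hD.vanish n d hd _ (by omega) _ (hf m x hx)

theorem dualMap_unique {f : F →ₗ[R] M} {g g' : D →ₗ[R] E} (hg : GrSeg.IsGDualMap β γ f g)
    (hg' : GrSeg.IsGDualMap β γ f g') : g = g' :=
  LinearMap.ext fun d => pair_inj hE fun x => (hg d x).trans (hg' d x).symm

/-- The dual of a homogeneous isomorphism. -/
theorem exists_dualEquiv (f : F ≃ₗ[R] M) {e : ℤ} (hf : GrLC.IsGrHomDeg ℱ ℳ f.toLinearMap e)
    (hf' : GrLC.IsGrHomDeg ℳ ℱ f.symm.toLinearMap (-e)) :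
    ∃ g : D ≃ₗ[R] E, GrSeg.IsGDualMap β γ f.toLinearMap g.toLinearMap ∧
      GrLC.IsGrHomDeg 𝒟 ℰ g.toLinearMap e ∧ GrLC.IsGrHomDeg ℰ 𝒟 g.symm.toLinearMap (-e) := by
  obtain ⟨g, hg, hge⟩ := exists_dualMap hD hE f.toLinearMap hf
  obtain ⟨g', hg', hge'⟩ := exists_dualMap hE hD f.symm.toLinearMap hf'
  refine ⟨LinearEquiv.ofLinear g g' ?_ ?_, hg, hge, hge'⟩
  · refine LinearMap.ext fun y => pair_inj hE fun x => ?_
    rw [LinearMap.comp_apply, hg, hg', LinearEquiv.coe_coe, LinearEquiv.coe_coe, f.symm_apply_apply]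
    rfl
  · refine LinearMap.ext fun y => pair_inj hD fun x => ?_
    rw [LinearMap.comp_apply, hg', hg, LinearEquiv.coe_coe, LinearEquiv.coe_coe, f.apply_symm_apply]
    rfl

end Two

end Groth.Agent.H4GD
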