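import Groth.Agent.H4GD.GorCanon

/-!
# The invariant of a ring whose canonical module is a shift of it
-/

set_option autoImplicit false
set_option linter.unusedSectionVars false
set_option linter.style.haveILetI false

universe u

open DirectSum

namespace Groth.Agent.H4GD

variable {k : Type u} [Field k] {R : Type u} [CommRing R] [Algebra k R] [IsNoetherianRing R] [Nontrivial R]
  {𝒜 : ℤ → AddSubgroup R} [GradedRing 𝒜] (hk : ∀ c : k, algebraMap k R c ∈ 𝒜 0)
  (hsurj : ∀ x ∈ 𝒜 0, ∃ c : k, algebraMap k R c = x) (hpos : ∀ n : ℤ, n < 0 → 𝒜 n = ⊥)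
  {m : HomogeneousIdeal 𝒜} (hm : m.toIdeal = Ideal.span (⋃ n ∈ Set.Ioi (0 : ℤ), (𝒜 n : Set R)))
  {n : ℕ} (I : GrLC.StarInjRes 𝒜 𝒜)
  {E : Type u} [AddCommGroup E] [Module R E] {𝓔 : ℤ → AddSubgroup E} [Decomposition 𝓔] [SetLike.GradedSMul 𝒜 𝓔]
  {e : (R ⧸ m.toIdeal) →ₗ[R] E} (he : GrLC.IsStarInjHull 𝒜 (GrLC.quotGr 𝒜 m) 𝓔 e)
  {C : Type u} [AddCommGroup C] [Module R C] {𝒞 : ℤ → AddSubgroup C} [Decomposition 𝒞] [SetLike.GradedSMul 𝒜 𝒞]
  (hC : GrLC.IsStarCanonical 𝒜 𝒞 𝓔 m n I)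

include hk hsurj hpos hm he hC in
theorem endDeg_eq_of_shift [LocCoh.IsCohenMacaulayRing R] {a : ℤ} {f : R →ₗ[R] C} (hf : Function.Bijective f) (hfd : GrLC.IsGrHomDeg 𝒜 𝒞 f a) :
    GrLC.endDeg (I.Hgr m n) = (((-a : ℤ) : WithTop ℤ) : WithBot (WithTop ℤ)) := by
  letI : Module k E := Module.compHom E (algebraMap k R)
  haveI : IsScalarTower k R E := IsScalarTower.of_algebraMap_smul fun _ _ => rfl
  letI : Module k C := Module.compHom C (algebraMap k R)
  haveI : IsScalarTower k R C := IsScalarTower.of_algebraMap_smul fun _ _ => rfl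
  letI : Module k (I.H m n) := Module.compHom (I.H m n) (algebraMap k R)
  haveI : IsScalarTower k R (I.H m n) := IsScalarTower.of_algebraMap_smul fun _ _ => rfl
  letI := (H4Gr.isInternal_Hgr m I n).chooseDecomposition
  haveI := H4Gr.gradedSMul_Hgr m I n
  obtain ⟨γ, hγ⟩ := gdual_of_canonical hk hsurj hpos m hm n I he hC
  have hz : f 1 ∈ 𝒞 a := by simpa using hfd 0 1 (SetLike.one_mem_graded 𝒜)
  have hne : f 1 ≠ 0 := fun h => one_ne_zero (hf.1 (h.trans (map_zero f).symm))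
  refine le_antisymm ((H4Gr.endDeg_le_iff' _).2 fun j hj => ?_) (le_iSup₂_of_le (-a) (fun hbot => hne ?_) le_rfl)
  · refine (AddSubgroup.eq_bot_iff_forall _).2 fun x hx => ?_
    by_contra hx0
    obtain ⟨G, hG⟩ := Module.Projective.exists_dual_ne_zero k hx0
    obtain ⟨d, hd', hdx⟩ := hγ.exists_eq (-j) G
    refine hG ((hdx x (by rwa [neg_neg])).symm.trans ?_)
    obtain ⟨r, hr⟩ := hf.2 d
    have hr' := isGrHomDeg_symm (φ := LinearEquiv.ofBijective f hf) hfd (-j) d hd'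
    rw [show (LinearEquiv.ofBijective f hf).symm.toLinearMap d = r from
      (LinearEquiv.symm_apply_eq _).2 hr.symm, hpos (-j + -a) (by omega), AddSubgroup.mem_bot] at hr'
    rw [← hr, hr', map_zero, map_zero, LinearMap.zero_apply]
  · exact hγ.eq_zero a (f 1) hz fun x hx => by
      rw [(AddSubgroup.eq_bot_iff_forall _).1 hbot x hx, map_zero]

end Groth.Agent.H4GD
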